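import Mathlib.AlgebraicGeometry.Artinian
import Mathlib.Topology.KrullDimension
import Mathlib.AlgebraicGeometry.Limits
import Mathlib.AlgebraicGeometry.Morphisms.Finite
import Mathlib.AlgebraicGeometry.Morphisms.FiniteType
import Mathlib.AlgebraicGeometry.Morphisms.QuasiFinite

/-!
Schemes of finite type and of dimension zero over a field.
-/

set_option autoImplicit false

universe u

open CategoryTheory CategoryTheory.Limits AlgebraicGeometry Topology TopologicalSpace Opposite

namespace K426.DimZero

/-- On a discrete scheme the global sections are the product of the local rings. -/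
theorem germ_bijective (X : Scheme.{u}) [DiscreteTopology X] :
    Function.Bijective (fun s : Γ(X, ⊤) => fun x : X => X.presheaf.germ ⊤ x trivial s) := by
  constructor
  · intro s t h
    exact TopCat.Presheaf.section_ext X.sheaf ⊤ s t (fun x _ => congrFun h x)
  · intro a
    choose U hU s hs using fun x : X => TopCat.Presheaf.exists_germ_eq X.presheaf (a x)
    let V : X → X.Opens := fun x => ⟨{x}, isOpen_discrete _⟩
    have hVU : ∀ x, V x ≤ U x := fun x y hy => by
      have : y = x := hy
      subst this
      exact hU y
    let t : ∀ x, Γ(X, V x) := fun x => X.presheaf.map (homOfLE (hVU x)).op (s x)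
    have hcomp : TopCat.Presheaf.IsCompatible X.sheaf.1 V t := by
      intro x y
      by_cases hxy : x = y
      · subst hxy
        rfl
      · have hbot : V x ⊓ V y = ⊥ := by
          rw [eq_bot_iff]
          rintro z ⟨hz1, hz2⟩
          have h1 : z = x := hz1
          have h2 : z = y := hz2
          exact (hxy (h1.symm.trans h2)).elim
        refine TopCat.Presheaf.section_ext X.sheaf _ _ _ (fun z hz => ?_)
        rw [hbot] at hz
        exact hz.elim
    obtain ⟨g, hg, -⟩ := X.sheaf.existsUnique_gluing' V ⊤ (fun x => homOfLE le_top)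
      (fun x _ => Opens.mem_iSup.mpr ⟨x, rfl⟩) t hcomp
    refine ⟨g, funext fun x => ?_⟩
    have h1 := hg x
    have h2 : X.presheaf.germ (V x) x rfl (X.presheaf.map (homOfLE le_top).op g) =
        X.presheaf.germ ⊤ x trivial g := X.presheaf.germ_res_apply (homOfLE le_top) x rfl g
    have h3 : X.presheaf.germ (V x) x rfl (t x) = a x := by
      rw [← hs x]
      exact X.presheaf.germ_res_apply (homOfLE (hVU x)) x rfl (s x)
    change X.presheaf.germ ⊤ x trivial g = a x
    rw [← h2, ← h3]
    exact congrArg _ h1

theorem dim_eq_zero_of_discrete (X : Type*) [TopologicalSpace X] [Nonempty X] [DiscreteTopology X] :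
    topologicalKrullDim X = 0 := by
  refine le_antisymm (topologicalKrullDim_zero_of_discreteTopology X) ?_
  unfold topologicalKrullDim
  rw [Order.krullDim_nonneg_iff]
  exact ⟨⟨closure {Classical.arbitrary X}, isIrreducible_singleton.closure, isClosed_closure⟩⟩

theorem tfae (k : Type u) [Field k] {X : Scheme.{u}} [Nonempty X]
    (f : X ⟶ Spec (CommRingCat.of k)) [LocallyOfFiniteType f] [QuasiCompact f] :
    [topologicalKrullDim ↥X = 0,
      IsAffine X ∧ f.appTop.hom.Finite ∧
        Function.Bijective (fun s : Γ(X, ⊤) => fun x : X => X.presheaf.germ ⊤ x trivial s),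
      DiscreteTopology ↥X,
      Finite ↥X].TFAE := by
  have hNo : IsLocallyNoetherian X := LocallyOfFiniteType.isLocallyNoetherian f
  have hJ : JacobsonSpace X := LocallyOfFiniteType.jacobsonSpace f
  have hC : CompactSpace X := QuasiCompact.compactSpace_of_compactSpace f
  have h13 : topologicalKrullDim ↥X = 0 → DiscreteTopology ↥X := fun h => by
    have : IsLocallyArtinian X := IsLocallyArtinian.of_topologicalKrullDim_le_zero h.le
    infer_instance
  have h34 : DiscreteTopology ↥X → Finite ↥X := fun h => finite_of_compact_of_discrete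
  have h43 : Finite ↥X → DiscreteTopology ↥X := fun h =>
    JacobsonSpace.discreteTopology (Set.toFinite _)
  have h31 : DiscreteTopology ↥X → topologicalKrullDim ↥X = 0 := fun h =>
    dim_eq_zero_of_discrete X
  have h32 : DiscreteTopology ↥X → IsAffine X ∧ f.appTop.hom.Finite ∧
        Function.Bijective (fun s : Γ(X, ⊤) => fun x : X => X.presheaf.germ ⊤ x trivial s) := by
    intro h
    have hfin := h34 h
    have haff : IsAffine X := inferInstance
    have : IsLocallyArtinian X := IsLocallyArtinian.of_topologicalKrullDim_le_zero (h31 h).le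
    refine ⟨haff, ?_, germ_bijective X⟩
    have : LocallyQuasiFinite f :=
      LocallyQuasiFinite.of_finite_preimage_singleton f (fun y => Set.toFinite _)
    have h1 : IsFinite f := IsFinite.of_locallyQuasiFinite f
    exact f.finite_appTop
  have h24 : (IsAffine X ∧ f.appTop.hom.Finite ∧
        Function.Bijective (fun s : Γ(X, ⊤) => fun x : X => X.presheaf.germ ⊤ x trivial s)) →
      Finite ↥X := by
    rintro ⟨h1, h2, -⟩
    have h3 : IsFinite f := (HasAffineProperty.iff_of_isAffine (P := @IsFinite)).mpr ⟨h1, h2⟩
    have h4 : (f ⁻¹' {IsLocalRing.closedPoint k}).Finite := f.finite_preimage_singleton _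
    have h5 : f ⁻¹' {IsLocalRing.closedPoint k} = Set.univ :=
      Set.eq_univ_of_forall fun x => Subsingleton.elim _ _
    rw [h5] at h4
    exact Set.finite_univ_iff.mp h4
  tfae_have 1 → 3 := h13
  tfae_have 3 → 4 := h34
  tfae_have 4 → 3 := h43
  tfae_have 3 → 1 := h31
  tfae_have 3 → 2 := h32
  tfae_have 2 → 4 := h24
  tfae_finish

end K426.DimZero
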