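import Groth.Agent.VarietyB.FibreGeneric
import Groth.Agent.EtpbcA.ArtinDim

/-!
Dimension of schemes (locally) of finite type over a field through transcendence degrees of residue
fields: natural number versions, and behaviour in fibres.
-/

set_option autoImplicit false

universe u

open CategoryTheory CategoryTheory.Limits AlgebraicGeometry Topology
open Groth.Agent Groth.Agent.VarietyB

namespace K426.DimKit

variable (k : Type u) [Field k]

section

variable (X : Scheme.{u}) [X.Over (Spec (CommRingCat.of k))]
  [LocallyOfFiniteType (X ↘ (Spec (CommRingCat.of k)))]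

theorem trd_cast (x : X) : ResMap.trd k X x = (DimSch.trd k X x : Cardinal.{u}) :=
  DimSch.trdeg_eq_trd k x

theorem trd_le_dim (x : X) : (DimSch.trd k X x : WithBot ℕ∞) ≤ topologicalKrullDim X := by
  rw [← FibreGeneric.dim_closure_eq k X x _ (trd_cast k X x)]
  exact topologicalKrullDim_subspace_le _ _

theorem exists_le_trd {n : ℕ} (h : (n : WithBot ℕ∞) ≤ topologicalKrullDim X) :
    ∃ x : X, n ≤ DimSch.trd k X x := by
  cases n with
  | zero =>
    have hne : Nonempty X := by
      by_contra hemp
      rw [not_nonempty_iff] at hemp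
      have h1 : topologicalKrullDim X = ⊥ := by
        unfold topologicalKrullDim
        rw [Order.krullDim_eq_bot_iff]
        exact ⟨fun s => (s.isIrreducible.nonempty.some : X) |> hemp.elim⟩
      rw [h1] at h
      exact absurd h (by simp)
    exact ⟨hne.some, Nat.zero_le _⟩
  | succ n =>
    by_contra hcon
    push Not at hcon
    have h1 := (EtpbcA.Artin.topologicalKrullDim_le_iff_trd k X n).mpr
      (fun x => Nat.lt_succ_iff.mp (hcon x))
    have h2 := h.trans h1
    have h3 : n + 1 ≤ n := by exact_mod_cast h2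
    omega

theorem le_dim_iff (n : ℕ) :
    (n : WithBot ℕ∞) ≤ topologicalKrullDim X ↔ ∃ x : X, n ≤ DimSch.trd k X x := by
  refine ⟨exists_le_trd k X, ?_⟩
  rintro ⟨x, hx⟩
  refine le_trans ?_ (trd_le_dim k X x)
  exact_mod_cast hx

theorem dim_closure (x : X) :
    topologicalKrullDim (closure {x} : Set X) = (DimSch.trd k X x : WithBot ℕ∞) :=
  FibreGeneric.dim_closure_eq k X x _ (trd_cast k X x)

end

section

variable {X Y : Scheme.{u}} [X.Over (Spec (CommRingCat.of k))] [Y.Over (Spec (CommRingCat.of k))]
  [LocallyOfFiniteType (X ↘ (Spec (CommRingCat.of k)))]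
  [LocallyOfFiniteType (Y ↘ (Spec (CommRingCat.of k)))]
  (f : X ⟶ Y) (hf : f ≫ (Y ↘ (Spec (CommRingCat.of k))) = X ↘ (Spec (CommRingCat.of k)))

include hf in
omit [LocallyOfFiniteType (Y ↘ (Spec (CommRingCat.of k)))] in
theorem locallyOfFiniteType_of_over : LocallyOfFiniteType f := by
  have : LocallyOfFiniteType (f ≫ (Y ↘ (Spec (CommRingCat.of k)))) := by rw [hf]; infer_instance
  exact locallyOfFiniteType_of_comp f (Y ↘ (Spec (CommRingCat.of k)))

include hf in
/-- Transcendence degrees in the fibres. -/
theorem trd_fiber (y : Y) (z : f.fiber y) :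
    letI : (f.fiber y).Over (Spec (CommRingCat.of (Y.residueField y))) :=
      ⟨f.fiberToSpecResidueField y⟩
    DimSch.trd k X (f.fiberι y z) =
      DimSch.trd k Y y + DimSch.trd (Y.residueField y) (f.fiber y) z := by
  let _ : (f.fiber y).Over (Spec (CommRingCat.of (Y.residueField y))) :=
    ⟨f.fiberToSpecResidueField y⟩
  have : LocallyOfFiniteType f := locallyOfFiniteType_of_over k f hf
  have : LocallyOfFiniteType ((f.fiber y) ↘ (Spec (CommRingCat.of (Y.residueField y)))) :=
    inferInstanceAs (LocallyOfFiniteType (pullback.snd f (Y.fromSpecResidueField y)))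
  have h := ResMap.trd_fiber k f hf y z
  rw [trd_cast, trd_cast, trd_cast] at h
  exact_mod_cast h

include hf in
theorem trd_map_le (x : X) : DimSch.trd k Y (f x) ≤ DimSch.trd k X x := by
  have h := trd_fiber k f hf (f x) (f.asFiber x)
  rw [Scheme.Hom.fiberι_asFiber] at h
  rw [h]
  exact Nat.le_add_right _ _

end

/-- The fibre as a topological subspace. -/
theorem dim_fiber_eq {X Y : Scheme.{u}} (f : X ⟶ Y) (y : Y) :
    topologicalKrullDim (f.fiber y) = topologicalKrullDim (f ⁻¹' {y} : Set X) :=
  IsHomeomorph.topologicalKrullDim_eq (f.fiberHomeo y) (f.fiberHomeo y).isHomeomorph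

end K426.DimKit
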