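import Groth.Agent.VarietyB.ResMap
import Mathlib.AlgebraicGeometry.Morphisms.Finite
import Mathlib.AlgebraicGeometry.Morphisms.FiniteType
import Mathlib.FieldTheory.IsAlgClosed.Basic
import Mathlib.AlgebraicGeometry.Stalk

/-!
Points with values in an algebraic closure of the base field.
-/

set_option autoImplicit false

universe u

open CategoryTheory CategoryTheory.Limits AlgebraicGeometry Topology
open Groth.Agent Groth.Agent.VarietyB

namespace K426.GeomPts

/-- Two algebraic closures of `k` containing `κ` are isomorphic over `κ`. -/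
theorem exists_equiv (k κ L M : Type*) [Field k] [Field κ] [Field L] [Field M] [Algebra k κ]
    [Algebra k L] [Algebra k M] [Algebra κ L] [IsScalarTower k κ L] [Algebra κ M]
    [IsScalarTower k κ M] [IsAlgClosure k L] [IsAlgClosure k M] :
    ∃ e : L ≃ₐ[k] M, ∀ x : κ, e (algebraMap κ L x) = algebraMap κ M x := by
  have h1 : IsAlgClosed L := IsAlgClosure.isAlgClosed k
  have h2 : IsAlgClosed M := IsAlgClosure.isAlgClosed k
  have h3 : Algebra.IsAlgebraic k L := IsAlgClosure.isAlgebraic
  have h4 : Algebra.IsAlgebraic k M := IsAlgClosure.isAlgebraic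
  have h5 : Algebra.IsAlgebraic κ L := Algebra.IsAlgebraic.tower_top (K := k) κ
  have h6 : Algebra.IsAlgebraic κ M := Algebra.IsAlgebraic.tower_top (K := k) κ
  have : IsAlgClosure κ L := ⟨h1, h5⟩
  have : IsAlgClosure κ M := ⟨h2, h6⟩
  let e := IsAlgClosure.equiv κ L M
  exact ⟨e.restrictScalars k, fun x => e.commutes x⟩

variable (k : Type u) [Field k] (X : Scheme.{u}) [X.Over (Spec (CommRingCat.of k))]

/-- A closed point has residue field finite over `k`, and conversely. -/
theorem isClosed_iff_finite [LocallyOfFiniteType (X ↘ Spec (CommRingCat.of k))] (x : X) :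
    IsClosed ({x} : Set X) ↔ (Curv2.resMap k X x).Finite := by
  have _ : JacobsonSpace X := LocallyOfFiniteType.jacobsonSpace (X ↘ Spec (CommRingCat.of k))
  rw [isClosed_singleton_iff_locallyOfFiniteType]
  constructor
  · intro h
    have h1 : LocallyOfFiniteType (X.fromSpecResidueField x ≫ (X ↘ Spec (CommRingCat.of k))) :=
      inferInstance
    rw [← ResMap.specMap_resMap, ← isFinite_iff_locallyOfFiniteType_of_jacobsonSpace,
      IsFinite.SpecMap_iff] at h1
    exact h1
  · intro h
    have h1 : LocallyOfFiniteType (X.fromSpecResidueField x ≫ (X ↘ Spec (CommRingCat.of k))) := by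
      rw [← ResMap.specMap_resMap, ← isFinite_iff_locallyOfFiniteType_of_jacobsonSpace,
        IsFinite.SpecMap_iff]
      exact h
    exact locallyOfFiniteType_of_comp _ (X ↘ Spec (CommRingCat.of k))

/-- `K`-valued points over `k` and embeddings of residue fields. -/
theorem exists_factor {K : Type u} [Field K] [Algebra k K] (p : Spec (CommRingCat.of K) ⟶ X)
    (hp : p ≫ (X ↘ Spec (CommRingCat.of k)) = Spec.map (CommRingCat.ofHom (algebraMap k K)))
    (x : X) (hx : p (IsLocalRing.closedPoint K) = x) :
    ∃ φ : X.residueField x ⟶ CommRingCat.of K, Spec.map φ ≫ X.fromSpecResidueField x = p ∧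
      φ.hom.comp (Curv2.resMap k X x) = algebraMap k K := by
  subst hx
  let φ := X.descResidueField (Scheme.stalkClosedPointTo p)
  have h1 : Spec.map φ ≫ X.fromSpecResidueField _ = p :=
    Scheme.descResidueField_stalkClosedPointTo_fromSpecResidueField K X p
  refine ⟨φ, h1, ?_⟩
  have h2 : CommRingCat.ofHom (Curv2.resMap k X _) ≫ φ = CommRingCat.ofHom (algebraMap k K) := by
    apply Spec.map_injective
    rw [Spec.map_comp, ResMap.specMap_resMap, ← Category.assoc, h1, hp]
  exact congrArg CommRingCat.Hom.hom h2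

/-- the closed points of `X` are the images of the points with values in an algebraic closure -/
theorem isClosed_iff_exists [LocallyOfFiniteType (X ↘ Spec (CommRingCat.of k))] (K : Type u) [Field K]
    [Algebra k K] [IsAlgClosure k K] (x : X) :
    IsClosed ({x} : Set X) ↔ ∃ p : Spec (CommRingCat.of K) ⟶ X,
      p ≫ (X ↘ Spec (CommRingCat.of k)) = Spec.map (CommRingCat.ofHom (algebraMap k K)) ∧
      p (IsLocalRing.closedPoint K) = x := by
  have hK : IsAlgClosed K := IsAlgClosure.isAlgClosed k
  have hKa : Algebra.IsAlgebraic k K := IsAlgClosure.isAlgebraic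
  refine (isClosed_iff_finite k X x).trans ?_
  let _ := Curv2.resAlgebra k X x
  constructor
  · intro h
    have : Module.Finite k (X.residueField x) := h
    let φ : X.residueField x →ₐ[k] K := IsAlgClosed.lift
    refine ⟨Spec.map (CommRingCat.ofHom φ.toRingHom) ≫ X.fromSpecResidueField x, ?_, ?_⟩
    · rw [Category.assoc, ← ResMap.specMap_resMap, ← Spec.map_comp]
      congr 1
      have h1 : φ.toRingHom.comp (Curv2.resMap k X x) = algebraMap k K := φ.comp_algebraMap
      rw [← h1]
      rfl
    · rw [Scheme.Hom.comp_apply]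
      exact Scheme.fromSpecResidueField_apply _ _
  · rintro ⟨p, hp, hpx⟩
    obtain ⟨φ, -, hφ⟩ := exists_factor k X p hp x hpx
    have : Algebra.EssFiniteType k (X.residueField x) := by
      rw [← RingHom.essFiniteType_algebraMap]
      exact ResMap.essFiniteType_resMap k X x
    let ψ : X.residueField x →ₐ[k] K := { φ.hom with commutes' := fun c => congrArg (fun g => g c) hφ }
    have : Algebra.IsAlgebraic k (X.residueField x) :=
      Algebra.IsAlgebraic.of_injective ψ ψ.toRingHom.injective
    exact Algebra.finite_of_essFiniteType_of_isAlgebraic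

/-- two points with values in an algebraic closure have the same image iff they are conjugate -/
theorem eq_iff_exists (K : Type u) [Field K] [Algebra k K] [IsAlgClosure k K]
    (p q : Spec (CommRingCat.of K) ⟶ X)
    (hp : p ≫ (X ↘ Spec (CommRingCat.of k)) = Spec.map (CommRingCat.ofHom (algebraMap k K)))
    (hq : q ≫ (X ↘ Spec (CommRingCat.of k)) = Spec.map (CommRingCat.ofHom (algebraMap k K))) :
    p (IsLocalRing.closedPoint K) = q (IsLocalRing.closedPoint K) ↔
      ∃ σ : K ≃ₐ[k] K, q = Spec.map (CommRingCat.ofHom σ.toRingHom) ≫ p := by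
  constructor
  · intro h
    obtain ⟨φ, hφ1, hφ2⟩ := exists_factor k X p hp _ h
    obtain ⟨ψ, hψ1, hψ2⟩ := exists_factor k X q hq _ rfl
    let κ := X.residueField (q (IsLocalRing.closedPoint K))
    let _ : Algebra k κ := Curv2.resAlgebra k X _
    obtain ⟨e, he⟩ := @exists_equiv k κ K K _ _ _ _ _ _ _ φ.hom.toAlgebra
      (@IsScalarTower.of_algebraMap_eq' k κ K _ _ _ _ φ.hom.toAlgebra _ hφ2.symm) ψ.hom.toAlgebra
      (@IsScalarTower.of_algebraMap_eq' k κ K _ _ _ _ ψ.hom.toAlgebra _ hψ2.symm) _ _
    refine ⟨e, ?_⟩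
    have h3 : ψ = φ ≫ CommRingCat.ofHom e.toRingHom := by
      ext x
      exact (he x).symm
    refine hψ1.symm.trans ?_
    refine Eq.trans ?_ (congrArg (fun g => Spec.map (CommRingCat.ofHom e.toRingHom) ≫ g) hφ1)
    rw [h3, Spec.map_comp, Category.assoc]
  · rintro ⟨σ, rfl⟩
    rw [Scheme.Hom.comp_apply]
    congr 1
    exact Subsingleton.elim _ _

end K426.GeomPts
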