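import Mathlib.RingTheory.MvPolynomial.Homogeneous
import Mathlib.Algebra.Polynomial.RingDivision
import Mathlib.Algebra.Polynomial.Degree.TrailingDegree
import Mathlib.RingTheory.Polynomial.UniqueFactorization
import Mathlib.Algebra.MvPolynomial.Division

/-!
Factors of homogeneous polynomials over a domain are homogeneous.
-/

set_option autoImplicit false

namespace K426.HomFactor

open MvPolynomial

variable {σ R : Type*} [CommRing R]

/-- `f ↦ ∑ f_i t^i`. -/
noncomputable def homog : MvPolynomial σ R →ₐ[R] Polynomial (MvPolynomial σ R) :=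
  aeval (fun i => Polynomial.C (X i) * Polynomial.X)

theorem homog_monomial (s : σ →₀ ℕ) (a : R) :
    homog (monomial s a) = Polynomial.C (monomial s a) * Polynomial.X ^ s.degree := by
  unfold homog
  rw [aeval_monomial, monomial_eq, map_mul]
  simp only [Finsupp.prod, mul_pow, Finset.prod_mul_distrib, Finset.prod_pow_eq_pow_sum,
    Finsupp.degree, map_prod, map_pow]
  rw [mul_assoc]
  rfl

theorem coeff_homog (f : MvPolynomial σ R) (i : ℕ) :
    (homog f).coeff i = homogeneousComponent i f := by
  classical
  induction f using MvPolynomial.induction_on' with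
  | monomial s a =>
    rw [homog_monomial, Polynomial.coeff_C_mul_X_pow,
      homogeneousComponent_of_mem (isHomogeneous_monomial a rfl)]
  | add p q hp hq => rw [map_add, Polynomial.coeff_add, hp, hq, map_add]

theorem homog_injective : Function.Injective (homog : MvPolynomial σ R →ₐ[R] _) := by
  rw [injective_iff_map_eq_zero]
  intro f hf
  rw [← sum_homogeneousComponent f]
  refine Finset.sum_eq_zero fun i _ => ?_
  rw [← coeff_homog, hf, Polynomial.coeff_zero]

theorem homog_of_isHomogeneous {f : MvPolynomial σ R} {d : ℕ} (hf : f.IsHomogeneous d) :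
    homog f = Polynomial.C f * Polynomial.X ^ d := by
  ext1 i
  rw [coeff_homog, Polynomial.coeff_C_mul_X_pow, homogeneousComponent_of_mem hf]

theorem isHomogeneous_of_homog {f : MvPolynomial σ R} {d : ℕ}
    (hf : ∀ i, i ≠ d → (homog f).coeff i = 0) : f.IsHomogeneous d := by
  have h1 : f = homogeneousComponent d f := by
    apply homog_injective
    ext1 i
    rw [coeff_homog, coeff_homog]
    by_cases h : i = d
    · subst h
      rw [homogeneousComponent_of_mem (homogeneousComponent_isHomogeneous i f), if_pos rfl]
    · rw [homogeneousComponent_of_mem (homogeneousComponent_isHomogeneous d f), if_neg h,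
        ← coeff_homog, hf i h]
  rw [h1]
  exact homogeneousComponent_isHomogeneous d f

theorem isHomogeneous_of_mul [IsDomain R] {p q : MvPolynomial σ R} {d : ℕ}
    (h : (p * q).IsHomogeneous d) (h0 : p * q ≠ 0) : ∃ a, p.IsHomogeneous a := by
  have hpq := homog_of_isHomogeneous h
  rw [map_mul] at hpq
  have hp0 : homog p ≠ 0 := fun e => h0 (by
    rw [homog_injective (by rw [e, map_zero] : homog p = homog 0), zero_mul])
  have hq0 : homog q ≠ 0 := fun e => h0 (by
    rw [homog_injective (by rw [e, map_zero] : homog q = homog 0), mul_zero])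
  have h1 : (homog p).natDegree + (homog q).natDegree = d := by
    rw [← Polynomial.natDegree_mul hp0 hq0, hpq, Polynomial.natDegree_C_mul_X_pow _ _ h0]
  have h2 : (homog p).natTrailingDegree + (homog q).natTrailingDegree = d := by
    rw [← Polynomial.natTrailingDegree_mul hp0 hq0, hpq, Polynomial.C_mul_X_pow_eq_monomial,
      Polynomial.natTrailingDegree_monomial h0]
  have h3 := Polynomial.natTrailingDegree_le_natDegree (homog p)
  have h4 := Polynomial.natTrailingDegree_le_natDegree (homog q)
  refine ⟨(homog p).natDegree, isHomogeneous_of_homog fun i hi => ?_⟩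
  rcases lt_or_gt_of_ne hi with hlt | hgt
  · exact Polynomial.coeff_eq_zero_of_lt_natTrailingDegree (by omega)
  · exact Polynomial.coeff_eq_zero_of_natDegree_lt hgt

theorem isHomogeneous_of_dvd [IsDomain R] {p f : MvPolynomial σ R} {d : ℕ}
    (h : f.IsHomogeneous d) (h0 : f ≠ 0) (hp : p ∣ f) : ∃ a, p.IsHomogeneous a := by
  obtain ⟨q, rfl⟩ := hp
  exact isHomogeneous_of_mul h h0

/-- Over a field a nonzero homogeneous polynomial of degree zero is a unit. -/
theorem isUnit_of_isHomogeneous_zero {k : Type*} [Field k] {p : MvPolynomial σ k}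
    (h : p.IsHomogeneous 0) (h0 : p ≠ 0) : IsUnit p := by
  have hC := totalDegree_eq_zero_iff_eq_C.mp (Nat.le_zero.mp h.totalDegree_le)
  rw [hC]
  refine IsUnit.map _ (isUnit_iff_ne_zero.mpr fun e => h0 ?_)
  rw [hC, e, map_zero]

end K426.HomFactor
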