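import Groth.Agent.Variety.K426.Cut

/-!
Dimension of closed subsets of a scheme locally of finite type over a field.
-/

set_option autoImplicit false

universe u

open CategoryTheory CategoryTheory.Limits AlgebraicGeometry Topology
open Groth.Agent Groth.Agent.VarietyB

namespace K426.SetDim

theorem eq_bot_iff_isEmpty (T : Type*) [TopologicalSpace T] :
    topologicalKrullDim T = ⊥ ↔ IsEmpty T := by
  unfold topologicalKrullDim
  rw [Order.krullDim_eq_bot_iff]
  constructor
  · intro h
    by_contra hcon
    rw [not_isEmpty_iff] at hcon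
    exact h.elim ⟨closure {hcon.some}, isIrreducible_singleton.closure, isClosed_closure⟩
  · intro h
    exact ⟨fun s => h.elim s.isIrreducible.nonempty.some⟩

variable (k : Type u) [Field k] {X : Scheme.{u}} [X.Over (Spec (CommRingCat.of k))]
  [LocallyOfFiniteType (X ↘ (Spec (CommRingCat.of k)))]

theorem dim_le_iff {W : Set X} (hW : IsClosed W) (m : ℕ) :
    topologicalKrullDim W ≤ (m : WithBot ℕ∞) ↔ ∀ z ∈ W, DimSch.trd k X z ≤ m := by
  constructor
  · intro h z hz
    have h1 : topologicalKrullDim (closure {z} : Set X) ≤ topologicalKrullDim W :=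
      Fga.DimLt.topologicalKrullDim_mono (closure_minimal (Set.singleton_subset_iff.mpr hz) hW)
    rw [DimKit.dim_closure k] at h1
    exact_mod_cast h1.trans h
  · intro h
    rw [DimTop.topologicalKrullDim_eq_iSup_irreducibleComponents (X := W)]
    refine iSup_le fun C => ?_
    obtain ⟨c, -, h2, -, h4⟩ := Cut.exists_of_mem_irreducibleComponents hW C.2
    rw [h4, DimKit.dim_closure k]
    exact_mod_cast h c h2

theorem le_dim_iff {W : Set X} (hW : IsClosed W) (m : ℕ) :
    (m : WithBot ℕ∞) ≤ topologicalKrullDim W ↔ ∃ z ∈ W, m ≤ DimSch.trd k X z := by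
  constructor
  · intro h
    by_contra hcon
    push Not at hcon
    cases m with
    | zero =>
      have h1 : topologicalKrullDim W = ⊥ := by
        rw [eq_bot_iff_isEmpty]
        exact ⟨fun z => absurd (hcon z.1 z.2) (Nat.not_lt_zero _)⟩
      rw [h1] at h
      exact absurd h (by simp)
    | succ m =>
      have h1 := (dim_le_iff k hW m).mpr (fun z hz => Nat.lt_succ_iff.mp (hcon z hz))
      have h2 : m + 1 ≤ m := by exact_mod_cast h.trans h1
      omega
  · rintro ⟨z, hz, hm⟩
    have h1 : topologicalKrullDim (closure {z} : Set X) ≤ topologicalKrullDim W :=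
      Fga.DimLt.topologicalKrullDim_mono (closure_minimal (Set.singleton_subset_iff.mpr hz) hW)
    rw [DimKit.dim_closure k] at h1
    refine le_trans ?_ h1
    exact_mod_cast hm

theorem dim_eq_iff {W : Set X} (hW : IsClosed W) (m : ℕ) :
    topologicalKrullDim W = (m : WithBot ℕ∞) ↔
      (∀ z ∈ W, DimSch.trd k X z ≤ m) ∧ ∃ z ∈ W, DimSch.trd k X z = m := by
  rw [le_antisymm_iff, dim_le_iff k hW, le_dim_iff k hW]
  constructor
  · rintro ⟨h1, z, hz, h2⟩
    exact ⟨h1, z, hz, le_antisymm (h1 z hz) h2⟩
  · rintro ⟨h1, z, hz, h2⟩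
    exact ⟨h1, z, hz, h2.ge⟩

end K426.SetDim
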