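import Groth.Agent.Variety.K426.ProjSets
import Groth.Agent.Variety.K426.SetDim
import Groth.Agent.Variety.K426.HomFactor
import Groth.Agent.S10829

/-!
The generic point of projective space and of a hypersurface; common zeros of two forms.
-/

set_option autoImplicit false

universe u

open CategoryTheory CategoryTheory.Limits AlgebraicGeometry Topology CohB1
open Groth.Agent Groth.Agent.VarietyB

namespace K426.ProjGen

open ProjCut

variable (k : Type u) [Field k] (n : ℕ)

theorem idl_gpt : idl (CohqA.ProjDim.gpt k n) = ⊥ := rfl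

theorem closure_gpt : closure {CohqA.ProjDim.gpt k n} = (Set.univ : Set (ProjSpace n k)) := by
  rw [Set.eq_univ_iff_forall]
  intro x
  exact specializes_iff_mem_closure.mp (CohqA.ProjDim.gpt_specializes x)

theorem trd_gpt : DimSch.trd k _ (CohqA.ProjDim.gpt k n) = n := by
  have h1 := DimKit.dim_closure k _ (CohqA.ProjDim.gpt k n)
  have h2 : topologicalKrullDim (Set.univ : Set (ProjSpace n k)) = topologicalKrullDim (ProjSpace n k) :=
    IsHomeomorph.topologicalKrullDim_eq _ (Homeomorph.Set.univ (ProjSpace n k)).isHomeomorph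
  rw [closure_gpt, h2, S10829.result] at h1
  exact_mod_cast h1.symm

variable {k n}

/-- the generic point of an irreducible hypersurface -/
theorem exists_point (h : MvPolynomial (Fin (n + 1)) k) (hirr : Irreducible h) {a : ℕ}
    (hh : h.IsHomogeneous a) (z : ProjSpace n k) (hz : h ∈ idl z) :
    ∃ c : ProjSpace n k, idl c = Ideal.span {h} := by
  have hle : Ideal.span {h} ≤ idl z := (Ideal.span_singleton_le_iff_mem _).mpr hz
  let J : HomogeneousIdeal (polyGrading n k) := ⟨Ideal.span {h}, Ideal.homogeneous_span _ _ (by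
    rintro x hx
    rw [Set.mem_singleton_iff] at hx
    subst hx
    exact ⟨a, (MvPolynomial.mem_homogeneousSubmodule _ _).mpr hh⟩)⟩
  have hprime : J.toIdeal.IsPrime := (Ideal.span_singleton_prime hirr.ne_zero).mpr hirr.prime
  refine ⟨(⟨J, hprime, fun hcon => ?_⟩ : ProjectiveSpectrum (polyGrading n k)), rfl⟩
  exact (show ProjectiveSpectrum (polyGrading n k) from z).not_irrelevant_le
    (hcon.trans (show J ≤ (show ProjectiveSpectrum (polyGrading n k) from z).asHomogeneousIdeal from hle))

/-- Points of the zero locus of a form `f ≠ 0` lie under the generic point of an irreducible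
hypersurface. -/
theorem exists_irreducible (f : MvPolynomial (Fin (n + 1)) k) (hf0 : f ≠ 0) {d : ℕ}
    (hf : f.IsHomogeneous d) (z : ProjSpace n k) (hz : f ∈ idl z) :
    ∃ (h : MvPolynomial (Fin (n + 1)) k) (a : ℕ), Irreducible h ∧ h.IsHomogeneous a ∧ h ∣ f ∧
      h ∈ idl z := by
  obtain ⟨s, hs, u, hu⟩ := UniqueFactorizationMonoid.exists_prime_factors f hf0
  have h1 : s.prod ∈ idl z := by
    have h2 : s.prod * u ∈ idl z := by rw [hu]; exact hz
    rcases (isPrime_idl z).mem_or_mem h2 with h3 | h3
    · exact h3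
    · exact absurd (Ideal.eq_top_of_isUnit_mem _ h3 u.isUnit) (isPrime_idl z).ne_top
  obtain ⟨h, hhs, hhz⟩ := (Ideal.IsPrime.multiset_prod_mem_iff_exists_mem (isPrime_idl z) s).mp h1
  have hdvd : h ∣ f := (Multiset.dvd_prod hhs).trans ⟨u, hu.symm⟩
  obtain ⟨a, ha⟩ := HomFactor.isHomogeneous_of_dvd hf hf0 hdvd
  exact ⟨h, a, (hs h hhs).irreducible, ha, hdvd, hhz⟩

theorem specializes_of_span {h : MvPolynomial (Fin (n + 1)) k} {c z : ProjSpace n k}
    (hc : idl c = Ideal.span {h}) (hz : h ∈ idl z) : c ⤳ z := by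
  rw [specializes_iff, hc]
  exact (Ideal.span_singleton_le_iff_mem _).mpr hz

/-- The generic point of an irreducible hypersurface in `P^n` has transcendence degree `n - 1`. -/
theorem trd_of_idl_eq_span {h : MvPolynomial (Fin (n + 1)) k} {a : ℕ} (hh : h.IsHomogeneous a)
    (h0 : h ≠ 0) {c : ProjSpace n k} (hc : idl c = Ideal.span {h}) :
    DimSch.trd k _ c + 1 = n := by
  have h1 := trd_eq_add_one k (CohqA.ProjDim.gpt_specializes c) h a hh
    (by rw [hc]; exact Ideal.mem_span_singleton_self h) (by rw [idl_gpt]; exact h0)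
    (fun z _ hzc hz => by
      have h2 : c ⤳ z := specializes_of_span hc hz
      exact (hzc.antisymm h2).eq)
  rw [trd_gpt] at h1
  exact h1.symm

end K426.ProjGen
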