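import Groth.Agent.VarietyB.ProjStd
import Groth.Agent.Variety.K426.ProjGen
import Groth.Agent.Picfga.ProjTwist
import Mathlib.AlgebraicGeometry.Morphisms.Finite
import Mathlib.AlgebraicGeometry.Morphisms.QuasiFinite
import Mathlib.LinearAlgebra.Basis.VectorSpace
import Mathlib.GroupTheory.CosetCover

/-!
Projections from linear subspaces (more generally morphisms given by forms of the same degree), finite
projections.
-/

set_option autoImplicit false

universe u

open CategoryTheory CategoryTheory.Limits AlgebraicGeometry Topology CohB1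
open Groth.Agent Groth.Agent.VarietyB Groth.Agent.VarietyB.ProjGlue Groth.Agent.VarietyB.ProjStd

namespace K426.LinProj

section Data

open Groth.Agent.Picfga.ProjGlue

variable {A : Type u} {σ : Type*} [CommRing A] [SetLike σ A] [AddSubgroupClass σ A] {𝒜 : ℕ → σ}
  [GradedRing 𝒜] {X : Scheme.{u}} (g : X ⟶ Proj 𝒜) {I : Type} (l : I → A) {e : ℕ}
  (hl : ∀ i, l i ∈ 𝒜 e)

/-- Coordinate data given by forms of the same degree. -/
noncomputable def formData (hcov : ⨆ i, g ⁻¹ᵁ Proj.basicOpen 𝒜 (l i) = ⊤) : CoordData X I where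
  U i := g ⁻¹ᵁ Proj.basicOpen 𝒜 (l i)
  iSup_U := hcov
  f i k := g.app (Proj.basicOpen 𝒜 (l i)) (frac (l k) (l i) ⟨e, hl k, hl i⟩ _ le_rfl)
  f_self i := by rw [frac_self, map_one]
  f_mul i j k := by
    have hh : frac (l k) (l i) ⟨e, hl k, hl i⟩ (Proj.basicOpen 𝒜 (l i) ⊓ Proj.basicOpen 𝒜 (l j))
        inf_le_left = frac (l j) (l i) ⟨e, hl j, hl i⟩ _ inf_le_left *
          frac (l k) (l j) ⟨e, hl k, hl j⟩ _ inf_le_right := by
      rw [frac_mul _ _ _ _ _ _ ⟨e + e, SetLike.mul_mem_graded (hl j) (hl k),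
        SetLike.mul_mem_graded (hl i) (hl j)⟩ _ _ _ (by rw [Proj.basicOpen_mul])]
      refine frac_eq _ _ _ _ _ _ _ _ _ (by ring)
    have := congrArg (g.app (Proj.basicOpen 𝒜 (l i) ⊓ Proj.basicOpen 𝒜 (l j))) hh
    rw [map_mul] at this
    have h1 := map_app g inf_le_left (g.preimage_mono inf_le_left)
      (frac (l k) (l i) ⟨e, hl k, hl i⟩ (Proj.basicOpen 𝒜 (l i)) le_rfl)
      (V := Proj.basicOpen 𝒜 (l i) ⊓ Proj.basicOpen 𝒜 (l j))
    have h2 := map_app g inf_le_left (g.preimage_mono inf_le_left)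
      (frac (l j) (l i) ⟨e, hl j, hl i⟩ (Proj.basicOpen 𝒜 (l i)) le_rfl)
      (V := Proj.basicOpen 𝒜 (l i) ⊓ Proj.basicOpen 𝒜 (l j))
    have h3 := map_app g inf_le_right (g.preimage_mono inf_le_right)
      (frac (l k) (l j) ⟨e, hl k, hl j⟩ (Proj.basicOpen 𝒜 (l j)) le_rfl)
      (V := Proj.basicOpen 𝒜 (l i) ⊓ Proj.basicOpen 𝒜 (l j))
    refine h1.trans (Eq.trans ?_ (congrArg₂ (· * ·) h2.symm h3.symm))
    exact this

theorem formData_basicOpen (hcov : ⨆ i, g ⁻¹ᵁ Proj.basicOpen 𝒜 (l i) = ⊤) (i k : I) :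
    X.basicOpen ((formData g l hl hcov).f i k) =
      (formData g l hl hcov).U i ⊓ (formData g l hl hcov).U k := by
  change X.basicOpen (g.app _ (frac (l k) (l i) ⟨e, hl k, hl i⟩ _ le_rfl)) = _
  rw [← Scheme.preimage_basicOpen, basicOpen_frac]
  rfl

end Data

section Proj

variable {R : Type u} [CommRing R] {n d : ℕ} {X : Scheme.{u}} (g : X ⟶ ProjSpace n R)
  (l : Fin (d + 1) → MvPolynomial (Fin (n + 1)) R) {e : ℕ} (hl : ∀ i, (l i).IsHomogeneous e)
  (hcov : ⨆ i, g ⁻¹ᵁ Proj.basicOpen (polyGrading n R) (l i) = ⊤)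

/-- The morphism to projective space given by forms of the same degree. -/
noncomputable def proj : X ⟶ ProjSpace d R :=
  (formData (𝒜 := polyGrading n R) g l
    (fun i => (MvPolynomial.mem_homogeneousSubmodule _ _).mpr (hl i)) hcov).toProjSpace
      (g ≫ ProjSpace.toSpec n R)

theorem proj_toSpec : proj g l hl hcov ≫ ProjSpace.toSpec d R = g ≫ ProjSpace.toSpec n R :=
  CoordData.toProjSpace_toSpec _ _

theorem proj_preimage (i : Fin (d + 1)) :
    proj g l hl hcov ⁻¹ᵁ Proj.basicOpen (polyGrading d R) (MvPolynomial.X i) =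
      g ⁻¹ᵁ Proj.basicOpen (polyGrading n R) (l i) :=
  CoordData.preimage_basicOpen _ (formData_basicOpen (𝒜 := polyGrading n R) g l
    (fun i => (MvPolynomial.mem_homogeneousSubmodule _ _).mpr (hl i)) hcov) _ i

theorem isAffineHom_proj [IsAffineHom g] (he : 0 < e) : IsAffineHom (proj g l hl hcov) := by
  refine isAffineHom_of_forall_exists_isAffineOpen _ fun y => ?_
  have hy : y ∈ (⨆ i : Fin (d + 1), Proj.basicOpen (polyGrading d R) (MvPolynomial.X i) :
      (Proj (polyGrading d R)).Opens) := by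
    rw [CoordData.iSup_basicOpen_X (Fin (d + 1)) R]; trivial
  obtain ⟨i, hi⟩ := TopologicalSpace.Opens.mem_iSup.mp hy
  refine ⟨Proj.basicOpen (polyGrading d R) (MvPolynomial.X i), hi, ?_, ?_⟩
  · exact Proj.isAffineOpen_basicOpen (polyGrading d R) (MvPolynomial.X i)
      ((MvPolynomial.mem_homogeneousSubmodule _ _).mpr (MvPolynomial.isHomogeneous_X R i)) one_pos
  · rw [proj_preimage]
    have hW : IsAffineOpen (X := ProjSpace n R) (Proj.basicOpen (polyGrading n R) (l i)) :=
      Proj.isAffineOpen_basicOpen (polyGrading n R) (l i)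
        ((MvPolynomial.mem_homogeneousSubmodule _ _).mpr (hl i)) he
    exact hW.preimage g

theorem isProper_proj [IsProper g] : IsProper (proj g l hl hcov) := by
  have h1 := ProjSpaceProper.isProper_toSpec n R
  have h2 := ProjSpaceProper.isProper_toSpec d R
  have h3 : IsProper (proj g l hl hcov ≫ ProjSpace.toSpec d R) := by
    rw [proj_toSpec]; infer_instance
  exact IsProper.of_comp _ (ProjSpace.toSpec d R)

theorem isFinite_proj [IsFinite g] (he : 0 < e) : IsFinite (proj g l hl hcov) :=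
  have := (IsFinite.iff_isProper_and_isAffineHom.mp ‹IsFinite g›).1
  have := (IsFinite.iff_isProper_and_isAffineHom.mp ‹IsFinite g›).2
  IsFinite.iff_isProper_and_isAffineHom.mpr ⟨isProper_proj g l hl hcov, isAffineHom_proj g l hl hcov he⟩

end Proj

section Trd

variable (k : Type u) [Field k] {X Y : Scheme.{u}} [X.Over (Spec (CommRingCat.of k))]
  [Y.Over (Spec (CommRingCat.of k))] [LocallyOfFiniteType (X ↘ (Spec (CommRingCat.of k)))]
  [LocallyOfFiniteType (Y ↘ (Spec (CommRingCat.of k)))] (f : X ⟶ Y)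
  (hf : f ≫ (Y ↘ (Spec (CommRingCat.of k))) = X ↘ (Spec (CommRingCat.of k)))

include hf in
/-- Quasi-finite morphisms preserve the dimension of closures of points. -/
theorem trd_eq_of_quasiFinite [LocallyQuasiFinite f] (x : X) :
    DimSch.trd k Y (f x) = DimSch.trd k X x := by
  have h := DimKit.trd_fiber k f hf (f x) (f.asFiber x)
  rw [Scheme.Hom.fiberι_asFiber] at h
  rw [h]
  let _ : (f.fiber (f x)).Over (Spec (CommRingCat.of (Y.residueField (f x)))) :=
    ⟨f.fiberToSpecResidueField (f x)⟩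
  have : LocallyOfFiniteType f := DimKit.locallyOfFiniteType_of_over k f hf
  have : LocallyOfFiniteType ((f.fiber (f x)) ↘ (Spec (CommRingCat.of (Y.residueField (f x))))) :=
    inferInstanceAs (LocallyOfFiniteType (pullback.snd f (Y.fromSpecResidueField (f x))))
  have h1 := DimKit.trd_le_dim (Y.residueField (f x)) (f.fiber (f x)) (f.asFiber x)
  have h2 : DiscreteTopology (f.fiber (f x)) := inferInstance
  have h3 := h1.trans (topologicalKrullDim_zero_of_discreteTopology (f.fiber (f x)))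
  have h4 : DimSch.trd (Y.residueField (f x)) (f.fiber (f x)) (f.asFiber x) ≤ 0 := by exact_mod_cast h3
  omega

end Trd

section Choose

variable {k : Type u} [Field k] [Infinite k] {n : ℕ}

open ProjCut

/-- A linear form vanishing at none of finitely many points. -/
theorem exists_linear_notMem (s : Set (ProjSpace n k)) (hs : s.Finite) :
    ∃ l : MvPolynomial (Fin (n + 1)) k, l.IsHomogeneous 1 ∧ ∀ x ∈ s, l ∉ idl x := by
  have := hs.to_subtype
  let E := MvPolynomial.homogeneousSubmodule (Fin (n + 1)) k 1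
  let p : s → Submodule k E := fun x =>
    ((idl x.1).restrictScalars k).comap E.subtype
  by_contra hcon
  push Not at hcon
  have hcov : ⋃ i, (p i : Set E) = Set.univ := by
    rw [Set.eq_univ_iff_forall]
    intro l
    obtain ⟨x, hx, hlx⟩ := hcon l.1 ((MvPolynomial.mem_homogeneousSubmodule _ _).mp l.2)
    exact Set.mem_iUnion.mpr ⟨⟨x, hx⟩, hlx⟩
  obtain ⟨x, hx⟩ := Subspace.exists_eq_top_of_iUnion_eq_univ hcov
  obtain ⟨i, hi⟩ := PerfB.ProjSpaceCover.exists_mem_basicOpen_X n k x.1
  apply hi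
  have h1 : (⟨MvPolynomial.X i, (MvPolynomial.mem_homogeneousSubmodule _ _).mpr
    (MvPolynomial.isHomogeneous_X k i)⟩ : E) ∈ p x := by rw [hx]; trivial
  exact h1

omit [Infinite k] in
variable (k n) in
theorem noetherianSpace : TopologicalSpace.NoetherianSpace (ProjSpace n k) := by
  have h : IsProper (ProjSpace.toSpec n k) := ProjSpaceProper.isProper_toSpec n k
  have h1 : IsLocallyNoetherian (ProjSpace n k) :=
    LocallyOfFiniteType.isLocallyNoetherian (ProjSpace.toSpec n k)
  have h2 : CompactSpace (ProjSpace n k) := QuasiCompact.compactSpace_of_compactSpace (ProjSpace.toSpec n k)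
  have h3 : IsNoetherian (ProjSpace n k) := {}
  infer_instance

/-- Linear forms without common zero on a closed set of dimension less than their number. -/
theorem exists_linear_forms : ∀ (e : ℕ) (W : Set (ProjSpace n k)) (_ : IsClosed W)
    (_ : ∀ z ∈ W, DimSch.trd k _ z < e),
    ∃ l : Fin e → MvPolynomial (Fin (n + 1)) k, (∀ i, (l i).IsHomogeneous 1) ∧
      ∀ z ∈ W, ∃ i, l i ∉ idl z
  | 0, W, _, h => ⟨fun i => i.elim0, fun i => i.elim0, fun z hz => absurd (h z hz) (Nat.not_lt_zero _)⟩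
  | e + 1, W, hW, h => by
    let s : Set (ProjSpace n k) := {c | c ∈ W ∧ ∀ w ∈ W, w ⤳ c → w = c}
    have hs : s.Finite := by
      have := noetherianSpace k n
      have hfin : (irreducibleComponents W).Finite :=
        TopologicalSpace.NoetherianSpace.finite_irreducibleComponents
      refine Set.Finite.of_finite_image (f := fun c => (Subtype.val ⁻¹' closure {c} : Set W))
        (hfin.subset ?_) ?_
      · rintro _ ⟨c, ⟨hc, hmax⟩, rfl⟩
        exact Cut.exists_mem_irreducibleComponents c hc hmax hW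
      · rintro c ⟨hc, hmax⟩ c' ⟨hc', hmax'⟩ heq
        have h1 : (⟨c', hc'⟩ : W) ∈ (Subtype.val ⁻¹' closure {c} : Set W) := by
          change (⟨c', hc'⟩ : W) ∈ (fun c => (Subtype.val ⁻¹' closure {c} : Set W)) c
          rw [heq]
          exact subset_closure rfl
        exact hmax' c hc (specializes_iff_mem_closure.mpr h1)
    obtain ⟨l0, hl0, hl0'⟩ := exists_linear_notMem s hs
    obtain ⟨l, hl, hl'⟩ := exists_linear_forms e (W ∩ {z | l0 ∈ idl z})
      (hW.inter (isClosed_setOf_mem l0)) (by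
        rintro z ⟨hz, hz'⟩
        obtain ⟨c, hc, hcz, hmax⟩ := exists_max hW z hz
        have hne : c ≠ z := by
          rintro rfl
          exact hl0' _ ⟨hc, hmax⟩ hz'
        have h1 := Cut.trd_lt k hcz hne
        have h2 := h c hc
        omega)
    refine ⟨Fin.cons l0 l, fun i => ?_, fun z hz => ?_⟩
    · induction i using Fin.cases with
      | zero => exact hl0
      | succ i => exact hl i
    · by_cases h0 : l0 ∈ idl z
      · obtain ⟨i, hi⟩ := hl' z ⟨hz, h0⟩
        exact ⟨i.succ, hi⟩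
      · exact ⟨0, h0⟩

end Choose

/-- Finite surjective morphisms to projective space (projective Noether normalization). -/
theorem exists_finite_surjective (k : Type u) [Field k] [Infinite k] (X : Scheme.{u})
    (n : ℕ) (ι : X ⟶ ProjSpace n k) [IsFinite ι] (d : ℕ) (hd : topologicalKrullDim X = d) :
    ∃ π : X ⟶ ProjSpace d k, π ≫ ProjSpace.toSpec d k = ι ≫ ProjSpace.toSpec n k ∧
      IsFinite π ∧ Surjective π := by
  let _ : X.Over (Spec (CommRingCat.of k)) := ⟨ι ≫ ProjSpace.toSpec n k⟩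
  have h0 : IsProper (ProjSpace.toSpec n k) := ProjSpaceProper.isProper_toSpec n k
  have h0' := (IsFinite.iff_isProper_and_isAffineHom.mp ‹IsFinite ι›).1
  have hlft : LocallyOfFiniteType (X ↘ Spec (CommRingCat.of k)) :=
    inferInstanceAs (LocallyOfFiniteType (ι ≫ ProjSpace.toSpec n k))
  have hι : ι ≫ (ProjSpace n k ↘ Spec (CommRingCat.of k)) = X ↘ Spec (CommRingCat.of k) := rfl
  have hW : IsClosed (Set.range ι) := ι.isClosedMap.isClosed_range
  obtain ⟨l, hl, hl'⟩ := exists_linear_forms (d + 1) (Set.range ι) hW (by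
    rintro _ ⟨x, rfl⟩
    rw [trd_eq_of_quasiFinite k ι hι x]
    have h1 := DimKit.trd_le_dim k X x
    rw [hd] at h1
    have h2 : DimSch.trd k X x ≤ d := by exact_mod_cast h1
    omega)
  have hcov : ⨆ i, ι ⁻¹ᵁ Proj.basicOpen (polyGrading n k) (l i) = ⊤ := by
    rw [eq_top_iff]
    intro x _
    obtain ⟨i, hi⟩ := hl' (ι x) ⟨x, rfl⟩
    exact TopologicalSpace.Opens.mem_iSup.mpr ⟨i, hi⟩
  have hfin := isFinite_proj ι l hl hcov one_pos
  refine ⟨proj ι l hl hcov, proj_toSpec ι l hl hcov, hfin, ?_⟩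
  obtain ⟨x, hx⟩ := (DimKit.le_dim_iff k X d).mp hd.ge
  have hπ : proj ι l hl hcov ≫ (ProjSpace d k ↘ Spec (CommRingCat.of k)) =
    X ↘ Spec (CommRingCat.of k) := proj_toSpec ι l hl hcov
  have h1 := trd_eq_of_quasiFinite k (proj ι l hl hcov) hπ x
  have h2 : proj ι l hl hcov x = CohqA.ProjDim.gpt k d := by
    by_contra hne
    have h3 := Cut.trd_lt k (CohqA.ProjDim.gpt_specializes (proj ι l hl hcov x)) (Ne.symm hne)
    rw [ProjGen.trd_gpt] at h3
    omega
  have hprop := (IsFinite.iff_isProper_and_isAffineHom.mp hfin).1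
  have hcl : IsClosed (Set.range (proj ι l hl hcov)) := (proj ι l hl hcov).isClosedMap.isClosed_range
  refine ⟨fun y => ?_⟩
  have h4 : (CohqA.ProjDim.gpt k d) ⤳ y := CohqA.ProjDim.gpt_specializes y
  exact h4.mem_closed hcl ⟨x, h2⟩

end K426.LinProj
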