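import Groth.Agent.Variety.K426.Cut
import Groth.Agent.Picfga.ProjTwist
import Groth.Agent.Fga.DimCut
import Groth.Agent.VarietyB.ProjSpaceProper
import Groth.Agent.CohqA.ProjDim

/-!
Cutting closed subsets of projective space over a field by homogeneous forms.
-/

set_option autoImplicit false

universe u

open CategoryTheory CategoryTheory.Limits AlgebraicGeometry Topology CohB1
open Groth.Agent Groth.Agent.VarietyB

namespace K426.ProjCut

variable (k : Type u) [Field k] (n : ℕ)

instance locallyOfFiniteType_over :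
    LocallyOfFiniteType (ProjSpace n k ↘ Spec (CommRingCat.of k)) := by
  have h : IsProper (ProjSpace.toSpec n k) := ProjSpaceProper.isProper_toSpec n k
  exact h.toLocallyOfFiniteType

instance isProper_over : IsProper (ProjSpace n k ↘ Spec (CommRingCat.of k)) :=
  ProjSpaceProper.isProper_toSpec n k

variable {k n}

/-- The homogeneous prime ideal of a point. -/
noncomputable def idl (z : ProjSpace n k) : Ideal (MvPolynomial (Fin (n + 1)) k) :=
  (show ProjectiveSpectrum (polyGrading n k) from z).asHomogeneousIdeal.toIdeal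

instance isPrime_idl (z : ProjSpace n k) : (idl z).IsPrime :=
  (show ProjectiveSpectrum (polyGrading n k) from z).isPrime

theorem mem_zeroLocus_iff (z : ProjSpace n k) (S : Set (MvPolynomial (Fin (n + 1)) k)) :
    (show ProjectiveSpectrum (polyGrading n k) from z) ∈ ProjectiveSpectrum.zeroLocus (polyGrading n k) S ↔
      S ⊆ idl z := Iff.rfl

theorem mem_basicOpen_iff (z : ProjSpace n k) (f : MvPolynomial (Fin (n + 1)) k) :
    z ∈ Proj.basicOpen (polyGrading n k) f ↔ f ∉ idl z := Iff.rfl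

theorem specializes_iff (x z : ProjSpace n k) : x ⤳ z ↔ idl x ≤ idl z := by
  rw [specializes_iff_mem_closure]
  exact (ProjectiveSpectrum.le_iff_mem_closure (polyGrading n k) x z).symm

theorem setOf_mem_eq (f : MvPolynomial (Fin (n + 1)) k) : {z : ProjSpace n k | f ∈ idl z} =
    ProjectiveSpectrum.zeroLocus (polyGrading n k) {f} := by
  ext w
  exact (Set.singleton_subset_iff (s := (idl w : Set (MvPolynomial (Fin (n + 1)) k)))).symm

theorem isClosed_setOf_mem (f : MvPolynomial (Fin (n + 1)) k) :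
    IsClosed {z : ProjSpace n k | f ∈ idl z} := by
  rw [setOf_mem_eq]
  exact ProjectiveSpectrum.isClosed_zeroLocus (polyGrading n k) {f}

/-- Local equations of a form in the standard charts. -/
theorem exists_local (f : MvPolynomial (Fin (n + 1)) k) (d : ℕ) (hf : f.IsHomogeneous d)
    (i : Fin (n + 1)) :
    ∃ s : Γ(ProjSpace n k, Proj.basicOpen (polyGrading n k) (MvPolynomial.X i)),
      ∀ z ∈ Proj.basicOpen (polyGrading n k) (MvPolynomial.X i),
        (z ∈ (ProjSpace n k).basicOpen s ↔ f ∉ idl z) := by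
  have hX : (MvPolynomial.X i : MvPolynomial (Fin (n + 1)) k) ^ d ∈ polyGrading n k d := by
    rw [MvPolynomial.mem_homogeneousSubmodule]
    exact MvPolynomial.isHomogeneous_X_pow i d
  have hT : Proj.basicOpen (polyGrading n k) (MvPolynomial.X i) ≤
      Proj.basicOpen (polyGrading n k) (MvPolynomial.X i ^ d) := by
    intro z hz hz'
    exact hz ((isPrime_idl z).mem_of_pow_mem _ hz')
  refine ⟨Picfga.ProjGlue.frac (𝒜 := polyGrading n k) f (MvPolynomial.X i ^ d)
    ⟨d, (MvPolynomial.mem_homogeneousSubmodule _ _).mpr hf, hX⟩ _ hT, fun z hz => ?_⟩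
  have h := Picfga.ProjGlue.basicOpen_frac (𝒜 := polyGrading n k) f (MvPolynomial.X i ^ d)
    ⟨d, (MvPolynomial.mem_homogeneousSubmodule _ _).mpr hf, hX⟩ _ hT
  change z ∈ (Proj (polyGrading n k)).basicOpen _ ↔ _
  rw [h]
  exact ⟨fun h => h.2, fun h => ⟨hz, h⟩⟩

theorem isAffineOpen_X (i : Fin (n + 1)) : IsAffineOpen (X := ProjSpace n k)
    (Proj.basicOpen (polyGrading n k) (MvPolynomial.X i)) :=
  Proj.isAffineOpen_basicOpen (polyGrading n k) (MvPolynomial.X i)
    ((MvPolynomial.mem_homogeneousSubmodule _ _).mpr (MvPolynomial.isHomogeneous_X k i)) one_pos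

variable (k) in
/-- Cutting by `r` forms drops the dimension of every component by at most `r`. -/
theorem trd_le_add {ξ c : ProjSpace n k} (h : ξ ⤳ c) {r : ℕ}
    (f : Fin r → MvPolynomial (Fin (n + 1)) k) (d : Fin r → ℕ) (hf : ∀ i, (f i).IsHomogeneous (d i))
    (hc : ∀ i, f i ∈ idl c)
    (hmax : ∀ z : ProjSpace n k, ξ ⤳ z → z ⤳ c → (∀ i, f i ∈ idl z) → z = c) :
    DimSch.trd k _ ξ ≤ DimSch.trd k _ c + r := by
  obtain ⟨j, hj⟩ := PerfB.ProjSpaceCover.exists_mem_basicOpen_X n k c
  choose s hs using fun i => exists_local (f i) (d i) (hf i) j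
  refine Cut.trd_le_add k h _ (isAffineOpen_X j) hj s (fun i hi => ?_) (fun z hz hz' hz'' => ?_)
  · exact (hs i c hj).mp hi (hc i)
  · refine hmax z hz hz' fun i => ?_
    by_contra hcon
    exact hz'' i ((hs i z (hz'.mem_open (Proj.basicOpen (polyGrading n k) (MvPolynomial.X j)).2 hj)).mpr hcon)

variable (k) in
/-- Cutting by one form drops the dimension of every component by exactly one. -/
theorem trd_eq_add_one {ξ c : ProjSpace n k} (h : ξ ⤳ c)
    (f : MvPolynomial (Fin (n + 1)) k) (d : ℕ) (hf : f.IsHomogeneous d)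
    (hc : f ∈ idl c) (hξ : f ∉ idl ξ)
    (hmax : ∀ z : ProjSpace n k, ξ ⤳ z → z ⤳ c → f ∈ idl z → z = c) :
    DimSch.trd k _ ξ = DimSch.trd k _ c + 1 := by
  have h1 := trd_le_add k h (r := 1) (fun _ => f) (fun _ => d) (fun _ => hf) (fun _ => hc)
    (fun z hz hz' hz'' => hmax z hz hz' (hz'' 0))
  have h2 := Cut.trd_lt k h (fun e => hξ (e ▸ hc))
  omega

/-- maximal points -/
theorem exists_max {T : Type*} [TopologicalSpace T] [QuasiSober T] [T0Space T] {W : Set T}
    (hW : IsClosed W) (z : T) (hz : z ∈ W) :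
    ∃ c ∈ W, c ⤳ z ∧ ∀ w ∈ W, w ⤳ c → w = c := by
  obtain ⟨C, hC, hzC⟩ := exists_mem_irreducibleComponents_subset_of_isIrreducible
    (closure {(⟨z, hz⟩ : W)}) isIrreducible_singleton.closure
  obtain ⟨c, h1, h2, h3, -⟩ := Cut.exists_of_mem_irreducibleComponents hW hC
  refine ⟨c, h2, ?_, h3⟩
  rw [specializes_iff_mem_closure, ← h1]
  exact ⟨_, hzC (subset_closure rfl), rfl⟩

/-- The zero locus of a form of positive degree meets every closed subset of positive dimension. -/
theorem exists_mem_of_pos (ξ : ProjSpace n k) (h : 0 < DimSch.trd k _ ξ)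
    (f : MvPolynomial (Fin (n + 1)) k) (d : ℕ) (hd : 0 < d) (hf : f.IsHomogeneous d) :
    ∃ z : ProjSpace n k, ξ ⤳ z ∧ f ∈ idl z := by
  by_contra hcon
  push Not at hcon
  let C : TopologicalSpace.Closeds (ProjSpace n k) := ⟨closure {ξ}, isClosed_closure⟩
  let I := Scheme.IdealSheafData.vanishingIdeal C
  let Z := I.subscheme
  let ι : Z ⟶ ProjSpace n k := I.subschemeι
  have hr : Set.range ι = closure {ξ} := by
    rw [Scheme.IdealSheafData.range_subschemeι, Scheme.IdealSheafData.coe_support_vanishingIdeal]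
    rfl
  let W : (ProjSpace n k).Opens := Proj.basicOpen (polyGrading n k) f
  have hW : IsAffineOpen W := Proj.isAffineOpen_basicOpen (polyGrading n k) f
    ((MvPolynomial.mem_homogeneousSubmodule _ _).mpr hf) hd
  have hpre : ι ⁻¹ᵁ W = ⊤ := by
    rw [eq_top_iff]
    intro z _
    have h1 : ξ ⤳ ι z := by
      rw [specializes_iff_mem_closure, ← hr]
      exact ⟨z, rfl⟩
    exact hcon _ h1
  have haff : IsAffine Z := by
    have h1 : IsAffineOpen (ι ⁻¹ᵁ W) := hW.preimage ι
    rw [hpre] at h1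
    have : IsAffine ((⊤ : Z.Opens) : Scheme.{u}) := h1
    exact IsAffine.of_isIso Z.topIso.inv
  have hprop : IsProper (ι ≫ ProjSpace.toSpec n k) := by
    have := ProjSpaceProper.isProper_toSpec n k
    infer_instance
  have h2 := Fga.DimCut.dim_le_zero_of_proper_affine Z (ι ≫ ProjSpace.toSpec n k)
  have h3 : topologicalKrullDim Z = topologicalKrullDim (closure {ξ} : Set (ProjSpace n k)) := by
    let e : Z ≃ₜ (closure {ξ} : Set (ProjSpace n k)) :=
      (ι.isEmbedding.toHomeomorph).trans (Homeomorph.setCongr hr)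
    exact IsHomeomorph.topologicalKrullDim_eq e e.isHomeomorph
  rw [h3, DimKit.dim_closure k] at h2
  have h4 : DimSch.trd k _ ξ ≤ 0 := by exact_mod_cast h2
  omega

/-- `r` forms of positive degree have a common zero on a closed subset of dimension at least `r`. -/
theorem exists_common_zero : ∀ {r : ℕ} (ξ : ProjSpace n k) (_ : r ≤ DimSch.trd k _ ξ)
    (f : Fin r → MvPolynomial (Fin (n + 1)) k) (d : Fin r → ℕ) (_ : ∀ i, 0 < d i)
    (_ : ∀ i, (f i).IsHomogeneous (d i)),
    ∃ z : ProjSpace n k, ξ ⤳ z ∧ ∀ i, f i ∈ idl z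
  | 0, ξ, _, f, d, _, _ => ⟨ξ, specializes_rfl, fun i => i.elim0⟩
  | r + 1, ξ, h, f, d, hd, hf => by
    obtain ⟨z, hz, hfz⟩ := exists_mem_of_pos ξ (by omega) (f 0) (d 0) (hd 0) (hf 0)
    obtain ⟨c, hc, hcz, hmax⟩ := exists_max (T := ProjSpace n k)
      (W := closure {ξ} ∩ {z | f 0 ∈ idl z})
      (isClosed_closure.inter (isClosed_setOf_mem (f 0))) z
      ⟨specializes_iff_mem_closure.mp hz, hfz⟩
    have h1 := trd_le_add k (specializes_iff_mem_closure.mpr hc.1) (r := 1) (fun _ => f 0)
      (fun _ => d 0) (fun _ => hf 0) (fun _ => hc.2)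
      (fun w hw hw' hw'' => hmax w ⟨specializes_iff_mem_closure.mp hw, hw'' 0⟩ hw')
    obtain ⟨z', hz', hz''⟩ := exists_common_zero c (by omega) (fun i => f i.succ) (fun i => d i.succ)
      (fun i => hd _) (fun i => hf _)
    refine ⟨z', (specializes_iff_mem_closure.mpr hc.1).trans hz', fun i => ?_⟩
    induction i using Fin.cases with
    | zero => exact (specializes_iff _ _).mp hz' hc.2
    | succ i => exact hz'' i

end K426.ProjCut
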