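import Groth.Agent.Variety.K426.DimKit

/-!
Dimension of the source of a morphism in terms of the dimensions of base and fibres.
-/

set_option autoImplicit false

universe u

open CategoryTheory CategoryTheory.Limits AlgebraicGeometry Topology
open Groth.Agent Groth.Agent.VarietyB

namespace K426.DimFib

/-- every point is a specialization of a maximal point -/
theorem exists_maximal_generization {T : Type*} [TopologicalSpace T] [QuasiSober T] [T0Space T]
    (y : T) : ∃ η : T, η ⤳ y ∧ (∀ y' : T, y' ⤳ η → y' = η) := by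
  obtain ⟨Z, hZ, hyZ⟩ := exists_mem_irreducibleComponents_subset_of_isIrreducible (closure {y})
    isIrreducible_singleton.closure
  have hcl : IsClosed Z := isClosed_of_mem_irreducibleComponents Z hZ
  obtain ⟨η, hη⟩ := QuasiSober.sober hZ.1 hcl
  refine ⟨η, ?_, ?_⟩
  · rw [specializes_iff_mem_closure, hη.def]
    exact hyZ (subset_closure rfl)
  · intro y' hy'
    have h1 : Z ⊆ closure {y'} := by
      rw [← hη.def]
      exact hy'.closure_subset
    have h2 : closure {y'} ⊆ Z := hZ.2 isIrreducible_singleton.closure h1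
    have h3 : closure {y'} = closure {η} := by
      rw [hη.def]; exact h2.antisymm h1
    exact (inseparable_iff_closure_eq.mpr h3).eq

theorem add_le_of_forall (r : ℕ) (a b : WithBot ℕ∞)
    (h : ∀ n : ℕ, (n : WithBot ℕ∞) ≤ a → ((r + n : ℕ) : WithBot ℕ∞) ≤ b) :
    (r : WithBot ℕ∞) + a ≤ b := by
  induction a with
  | bot => simp
  | coe a =>
    induction a with
    | top =>
      have htop : ∀ n : ℕ, ((r + n : ℕ) : WithBot ℕ∞) ≤ b := fun n => h n (by
        change ((n : ℕ∞) : WithBot ℕ∞) ≤ ((⊤ : ℕ∞) : WithBot ℕ∞)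
        exact_mod_cast le_top)
      have hb : b = ((⊤ : ℕ∞) : WithBot ℕ∞) := by
        induction b with
        | bot => exact absurd (htop 0) (by simp)
        | coe b =>
          congr 1
          rw [ENat.eq_top_iff_forall_ge]
          intro m
          have h1 := htop m
          have h2 : ((r + m : ℕ) : ℕ∞) ≤ b := by
            have : (((r + m : ℕ) : ℕ∞) : WithBot ℕ∞) ≤ (b : WithBot ℕ∞) := h1
            exact WithBot.coe_le_coe.mp this
          refine le_trans ?_ h2
          exact_mod_cast Nat.le_add_left _ _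
      rw [hb]
      exact le_top
    | coe n =>
      have h1 := h n le_rfl
      refine le_trans (le_of_eq ?_) h1
      push_cast
      rfl

theorem le_iff_forall_nat (a b : WithBot ℕ∞) :
    a ≤ b ↔ ∀ n : ℕ, (n : WithBot ℕ∞) ≤ a → (n : WithBot ℕ∞) ≤ b := by
  constructor
  · intro h n hn
    exact hn.trans h
  · intro h
    have := add_le_of_forall 0 a b (fun n hn => by simpa using h n hn)
    simpa using this

section

variable (k : Type u) [Field k] {X Y : Scheme.{u}}
  [X.Over (Spec (CommRingCat.of k))] [Y.Over (Spec (CommRingCat.of k))]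
  [LocallyOfFiniteType (X ↘ (Spec (CommRingCat.of k)))]
  [LocallyOfFiniteType (Y ↘ (Spec (CommRingCat.of k)))]

omit [Y.Over (Spec (CommRingCat.of k))] [LocallyOfFiniteType (Y ↘ (Spec (CommRingCat.of k)))] in
theorem trd_le_of_specializes {x y : X} (h : x ⤳ y) : DimSch.trd k X y ≤ DimSch.trd k X x := by
  have h1 : topologicalKrullDim (closure {y} : Set X) ≤ topologicalKrullDim (closure {x} : Set X) :=
    (IsEmbedding.inclusion h.closure_subset).isInducing.topologicalKrullDim_le
  rw [DimKit.dim_closure k X x, DimKit.dim_closure k X y] at h1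
  exact_mod_cast h1

/-- A lower bound for the dimension of the source from the fibres over maximal points. -/
theorem add_le_dim (f : X ⟶ Y)
    (hf : f ≫ (Y ↘ (Spec (CommRingCat.of k))) = X ↘ (Spec (CommRingCat.of k))) (r : ℕ)
    (hfib : ∀ η : Y, (∀ y : Y, y ⤳ η → y = η) →
      (r : WithBot ℕ∞) ≤ topologicalKrullDim (f ⁻¹' {η} : Set X)) :
    (r : WithBot ℕ∞) + topologicalKrullDim Y ≤ topologicalKrullDim X := by
  refine add_le_of_forall _ _ _ fun n hn => ?_
  obtain ⟨y, hy⟩ := DimKit.exists_le_trd k Y hn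
  obtain ⟨η, hηy, hη⟩ := exists_maximal_generization y
  have h1 := hfib η hη
  rw [← DimKit.dim_fiber_eq] at h1
  have : LocallyOfFiniteType f := DimKit.locallyOfFiniteType_of_over k f hf
  let _ : (f.fiber η).Over (Spec (CommRingCat.of (Y.residueField η))) :=
    ⟨f.fiberToSpecResidueField η⟩
  have : LocallyOfFiniteType ((f.fiber η) ↘ (Spec (CommRingCat.of (Y.residueField η)))) :=
    inferInstanceAs (LocallyOfFiniteType (pullback.snd f (Y.fromSpecResidueField η)))
  obtain ⟨z, hz⟩ := DimKit.exists_le_trd (Y.residueField η) (f.fiber η) h1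
  have h2 := DimKit.trd_fiber k f hf η z
  have h3 := trd_le_of_specializes k hηy
  rw [DimKit.le_dim_iff k X]
  exact ⟨f.fiberι η z, by rw [h2]; omega⟩

/-- An upper bound for the dimension of the source from the fibres. -/
theorem dim_le_add (f : X ⟶ Y)
    (hf : f ≫ (Y ↘ (Spec (CommRingCat.of k))) = X ↘ (Spec (CommRingCat.of k))) (r : ℕ)
    (hfib : ∀ y : Y, (f ⁻¹' {y}).Nonempty →
      topologicalKrullDim (f ⁻¹' {y} : Set X) ≤ (r : WithBot ℕ∞)) :
    topologicalKrullDim X ≤ (r : WithBot ℕ∞) + topologicalKrullDim Y := by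
  rw [le_iff_forall_nat]
  intro n hn
  obtain ⟨x, hx⟩ := DimKit.exists_le_trd k X hn
  have h1 := hfib (f x) ⟨x, rfl⟩
  rw [← DimKit.dim_fiber_eq] at h1
  have : LocallyOfFiniteType f := DimKit.locallyOfFiniteType_of_over k f hf
  let _ : (f.fiber (f x)).Over (Spec (CommRingCat.of (Y.residueField (f x)))) :=
    ⟨f.fiberToSpecResidueField (f x)⟩
  have : LocallyOfFiniteType ((f.fiber (f x)) ↘ (Spec (CommRingCat.of (Y.residueField (f x))))) :=
    inferInstanceAs (LocallyOfFiniteType (pullback.snd f (Y.fromSpecResidueField (f x))))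
  have h2 := (EtpbcA.Artin.topologicalKrullDim_le_iff_trd (Y.residueField (f x)) (f.fiber (f x)) r).mp
    h1 (f.asFiber x)
  have h3 := DimKit.trd_fiber k f hf (f x) (f.asFiber x)
  rw [Scheme.Hom.fiberι_asFiber] at h3
  have h4 := DimKit.trd_le_dim k Y (f x)
  calc (n : WithBot ℕ∞) ≤ ((r + DimSch.trd k Y (f x) : ℕ) : WithBot ℕ∞) := by
        exact_mod_cast (by omega : n ≤ r + DimSch.trd k Y (f x))
    _ = (r : WithBot ℕ∞) + (DimSch.trd k Y (f x) : WithBot ℕ∞) := by push_cast; rfl
    _ ≤ _ := by gcongr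

end

end K426.DimFib
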