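import Groth.Agent.Variety.K426.DimFib
import Groth.Agent.VarietyB.CovBy
import Groth.Agent.Fga.DimLt
import Mathlib.RingTheory.Ideal.KrullsHeightTheorem

/-!
Cutting by `r` equations on schemes locally of finite type over a field.
-/

set_option autoImplicit false

universe u

open CategoryTheory CategoryTheory.Limits AlgebraicGeometry Topology
open Groth.Agent Groth.Agent.VarietyB

namespace K426.Cut

section Pts

variable {X : Scheme.{u}} {U : X.Opens} (hU : IsAffineOpen U)

theorem mem_primeIdealOf_iff (x : X) (hx : x ∈ U) (f : Γ(X, U)) :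
    f ∈ (hU.primeIdealOf ⟨x, hx⟩).asIdeal ↔ x ∉ X.basicOpen f := by
  have h2 := hU.fromSpec_preimage_basicOpen f
  have h3 : hU.primeIdealOf ⟨x, hx⟩ ∈ hU.fromSpec ⁻¹ᵁ X.basicOpen f ↔ x ∈ X.basicOpen f := by
    change hU.fromSpec (hU.primeIdealOf ⟨x, hx⟩) ∈ X.basicOpen f ↔ x ∈ X.basicOpen f
    rw [hU.fromSpec_primeIdealOf]
  rw [← h3, h2]
  change _ ↔ ¬ (f ∉ (hU.primeIdealOf ⟨x, hx⟩).asIdeal)
  rw [not_not]

include hU in
theorem exists_point (p : PrimeSpectrum Γ(X, U)) : ∃ (z : X) (hz : z ∈ U),
    hU.primeIdealOf ⟨z, hz⟩ = p := by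
  have hz : hU.fromSpec p ∈ U := by
    have : hU.fromSpec p ∈ Set.range hU.fromSpec := ⟨p, rfl⟩
    rwa [hU.range_fromSpec] at this
  exact ⟨hU.fromSpec p, hz, CovBy.primeIdealOf_fromSpec hU p hz⟩

end Pts

variable (k : Type u) [Field k] {X : Scheme.{u}} [X.Over (Spec (CommRingCat.of k))]
  [LocallyOfFiniteType (X ↘ (Spec (CommRingCat.of k)))]

attribute [local instance] DimSch.secAlgebra

/-- Krull's height theorem: cutting the closure of `ξ` by `r` functions near `c`. -/
theorem trd_le_add {ξ c : X} (h : ξ ⤳ c) (U : X.Opens) (hU : IsAffineOpen U) (hc : c ∈ U)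
    {r : ℕ} (s : Fin r → Γ(X, U)) (hs : ∀ i, c ∉ X.basicOpen (s i))
    (hmax : ∀ z : X, ξ ⤳ z → z ⤳ c → (∀ i, z ∉ X.basicOpen (s i)) → z = c) :
    DimSch.trd k X ξ ≤ DimSch.trd k X c + r := by
  have hξ : ξ ∈ U := h.mem_open U.2 hc
  have : Algebra.FiniteType k Γ(X, U) := DimSch.toSections_finiteType k X hU
  have hN : IsNoetherianRing Γ(X, U) := Algebra.FiniteType.isNoetherianRing k Γ(X, U)
  set q := (hU.primeIdealOf ⟨ξ, hξ⟩).asIdeal with hq
  set P := (hU.primeIdealOf ⟨c, hc⟩).asIdeal with hP
  have hle : q ≤ P := (CovBy.primeIdealOf_le_iff hU ⟨ξ, hξ⟩ ⟨c, hc⟩).mpr h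
  have h1 := DimRing.height_quotient_add_dim k hle
  rw [hP, DimSch.dim_quotient_eq_trd k hU c hc, ← hP] at h1
  have h2 := DimSch.dim_quotient_eq_trd k hU ξ hξ
  rw [← hq] at h2
  rw [h2] at h1
  have hprime := DimRing.isPrime_map_quotient hle
  have hmin : P.map (Ideal.Quotient.mk q) ∈
      (Ideal.span (Set.range fun i => Ideal.Quotient.mk q (s i))).minimalPrimes := by
    refine ⟨⟨hprime, ?_⟩, ?_⟩
    · rw [Ideal.span_le]
      rintro _ ⟨i, rfl⟩
      exact Ideal.mem_map_of_mem _ ((mem_primeIdealOf_iff hU c hc (s i)).mpr (hs i))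
    · rintro Q ⟨hQ, hQs⟩ hQP
      have hQ' : (Q.comap (Ideal.Quotient.mk q)).IsPrime := Ideal.IsPrime.comap _
      obtain ⟨z, hz, hzQ⟩ := exists_point hU ⟨Q.comap (Ideal.Quotient.mk q), hQ'⟩
      have hzQ' : (hU.primeIdealOf ⟨z, hz⟩).asIdeal = Q.comap (Ideal.Quotient.mk q) := by
        rw [hzQ]
      have hzc : z = c := by
        refine hmax z ?_ ?_ ?_
        · refine (CovBy.primeIdealOf_le_iff hU ⟨ξ, hξ⟩ ⟨z, hz⟩).mp ?_
          change q ≤ (hU.primeIdealOf ⟨z, hz⟩).asIdeal
          rw [hzQ']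
          intro a ha
          rw [Ideal.mem_comap, Ideal.Quotient.eq_zero_iff_mem.mpr ha]
          exact Q.zero_mem
        · refine (CovBy.primeIdealOf_le_iff hU ⟨z, hz⟩ ⟨c, hc⟩).mp ?_
          change (hU.primeIdealOf ⟨z, hz⟩).asIdeal ≤ P
          rw [hzQ', ← DimRing.comap_map_quotient hle]
          exact Ideal.comap_mono hQP
        · intro i
          rw [← mem_primeIdealOf_iff hU z hz, hzQ', Ideal.mem_comap]
          exact hQs (Ideal.subset_span ⟨i, rfl⟩)
      subst hzc
      rw [hP, hzQ', Ideal.map_comap_of_surjective _ Ideal.Quotient.mk_surjective]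
  have hht := Ideal.height_le_card_of_mem_minimalPrimes_span (Set.finite_range _) hmin
  have hcard : (Set.range fun i => Ideal.Quotient.mk q (s i)).ncard ≤ r := by
    rw [← Set.image_univ]
    refine (Set.ncard_image_le Set.finite_univ).trans ?_
    rw [Set.ncard_univ, Nat.card_eq_fintype_card, Fintype.card_fin]
  have hht' : (P.map (Ideal.Quotient.mk q)).height ≤ (r : ℕ∞) := hht.trans (by exact_mod_cast hcard)
  have h3 : (DimSch.trd k X ξ : WithBot ℕ∞) ≤ (r : WithBot ℕ∞) + DimSch.trd k X c := by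
    rw [← h1]
    gcongr
    exact_mod_cast hht'
  have h4 : DimSch.trd k X ξ ≤ r + DimSch.trd k X c := by exact_mod_cast h3
  omega

/-- Transcendence degrees drop under proper specialization. -/
theorem trd_lt {x y : X} (h : x ⤳ y) (hne : x ≠ y) : DimSch.trd k X y < DimSch.trd k X x := by
  have h1 : closure {y} ≠ closure {x} := fun e => hne (inseparable_iff_closure_eq.mpr e.symm).eq
  have h2 := Fga.DimLt.topologicalKrullDim_lt (T := X) (A := closure {x}) (B := closure {y})
    isIrreducible_singleton.closure isClosed_closure h.closure_subset h1 (d := DimSch.trd k X x) (by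
      rw [DimKit.dim_closure k X x]
      exact_mod_cast Nat.lt_succ_self _)
  rw [DimKit.dim_closure k X y] at h2
  exact_mod_cast h2

/-- Cutting by one equation drops the dimension by exactly one. -/
theorem trd_eq_add_one {ξ c : X} (h : ξ ⤳ c) (U : X.Opens) (hU : IsAffineOpen U) (hc : c ∈ U)
    (s : Γ(X, U)) (hs : c ∉ X.basicOpen s)
    (hmax : ∀ z : X, ξ ⤳ z → z ⤳ c → z ∉ X.basicOpen s → z = c) (hne : ξ ≠ c) :
    DimSch.trd k X ξ = DimSch.trd k X c + 1 := by
  have h1 := trd_le_add k h U hU hc (r := 1) (fun _ => s) (fun _ => hs)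
    (fun z hz hz' hz'' => hmax z hz hz' (hz'' 0))
  have h2 := trd_lt k h hne
  omega

section Components

/-- Irreducible components of a closed subset and their generic points. -/
theorem exists_of_mem_irreducibleComponents {T : Type*} [TopologicalSpace T] [QuasiSober T] [T0Space T]
    {W : Set T} (hW : IsClosed W) {C : Set W} (hC : C ∈ irreducibleComponents W) :
    ∃ c : T, Subtype.val '' C = closure {c} ∧ c ∈ W ∧ (∀ z ∈ W, z ⤳ c → z = c) ∧
      topologicalKrullDim C = topologicalKrullDim (closure {c} : Set T) := by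
  have hCcl : IsClosed C := isClosed_of_mem_irreducibleComponents C hC
  have hcl : IsClosed (Subtype.val '' C : Set T) :=
    hW.isClosedEmbedding_subtypeVal.isClosedMap _ hCcl
  have hirr : IsIrreducible (Subtype.val '' C : Set T) :=
    hC.1.image _ continuous_subtype_val.continuousOn
  obtain ⟨c, hc⟩ := QuasiSober.sober hirr hcl
  have hcC : c ∈ (Subtype.val '' C : Set T) := by
    rw [← hc.def]; exact subset_closure rfl
  obtain ⟨c', hc'C, hc'⟩ := hcC
  have hcW : c ∈ W := by rw [← hc']; exact c'.2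
  refine ⟨c, hc.def.symm, hcW, ?_, ?_⟩
  · intro z hz hzc
    have h1 : C ⊆ closure {(⟨z, hz⟩ : W)} := by
      intro w hw
      have h2 : (w : T) ∈ closure {c} := by
        rw [hc.def]; exact ⟨w, hw, rfl⟩
      have h3 : (w : T) ∈ closure {z} := hzc.closure_subset h2
      rw [Topology.IsEmbedding.subtypeVal.closure_eq_preimage_closure_image, Set.image_singleton]
      exact h3
    have h2 : closure {(⟨z, hz⟩ : W)} ⊆ C := hC.2 isIrreducible_singleton.closure h1
    have h3 : z ∈ closure {c} := by
      rw [hc.def]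
      exact ⟨⟨z, hz⟩, h2 (subset_closure rfl), rfl⟩
    exact (hzc.antisymm (specializes_iff_mem_closure.mpr h3)).eq
  · rw [hc.def]
    let g : C → (Subtype.val '' C : Set T) := fun w => ⟨w.1.1, w.1, w.2, rfl⟩
    have hg : IsHomeomorph g := by
      have hg1 : Function.Bijective g := by
        constructor
        · intro a b hab
          exact Subtype.ext (Subtype.ext (congrArg (fun t : (Subtype.val '' C : Set T) => t.1) hab))
        · rintro ⟨_, w, hw, rfl⟩
          exact ⟨⟨w, hw⟩, rfl⟩
      have hg2 : IsInducing g := by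
        have e : IsInducing (fun x : (Subtype.val '' C : Set T) => x.1) := IsInducing.subtypeVal
        have e2 : IsInducing (fun d : C => (d.1.1 : T)) :=
          IsInducing.subtypeVal.comp IsInducing.subtypeVal
        exact e.of_comp_iff.mp e2
      exact (isHomeomorph_iff_isEmbedding_surjective).mpr ⟨⟨hg2, hg1.1⟩, hg1.2⟩
    exact hg.topologicalKrullDim_eq

/-- Conversely the closures of the maximal points are components. -/
theorem exists_mem_irreducibleComponents {T : Type*} [TopologicalSpace T] {W : Set T} (c : T)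
    (hcW : c ∈ W) (hmax : ∀ z ∈ W, z ⤳ c → z = c) [QuasiSober T] (hW : IsClosed W) :
    (Subtype.val ⁻¹' closure {c} : Set W) ∈ irreducibleComponents W := by
  have hcl : (Subtype.val ⁻¹' closure {c} : Set W) = closure {(⟨c, hcW⟩ : W)} := by
    rw [Topology.IsEmbedding.subtypeVal.closure_eq_preimage_closure_image, Set.image_singleton]
  rw [hcl]
  refine ⟨isIrreducible_singleton.closure, ?_⟩
  intro D hD hle
  have hDcl : IsClosed (closure D : Set W) := isClosed_closure
  have h1 : IsClosed (Subtype.val '' closure D : Set T) :=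
    hW.isClosedEmbedding_subtypeVal.isClosedMap _ hDcl
  have h2 : IsIrreducible (Subtype.val '' closure D : Set T) :=
    hD.closure.image _ continuous_subtype_val.continuousOn
  obtain ⟨z, hz⟩ := QuasiSober.sober h2 h1
  have hzm : z ∈ (Subtype.val '' closure D : Set T) := by
    rw [← hz.def]; exact subset_closure rfl
  obtain ⟨z', hz'D, hz'⟩ := hzm
  have hzc : z ⤳ c := by
    rw [specializes_iff_mem_closure, hz.def]
    exact ⟨⟨c, hcW⟩, subset_closure (hle (subset_closure rfl)), rfl⟩
  have hzW : z ∈ W := by rw [← hz']; exact z'.2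
  have hzc' := hmax z hzW hzc
  intro w hw
  have h3 : (w : T) ∈ closure {c} := by
    rw [← hzc', hz.def]
    exact ⟨w, subset_closure hw, rfl⟩
  rw [Topology.IsEmbedding.subtypeVal.closure_eq_preimage_closure_image, Set.image_singleton]
  exact h3

end Components

end K426.Cut
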