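import Groth.Agent.Variety.K426.ProjCut

/-!
Closed subsets of projective space (as the topological space of homogeneous primes) and their
irreducible components; dimension theorems for zero loci of forms.
-/

set_option autoImplicit false

universe u

open CategoryTheory CategoryTheory.Limits AlgebraicGeometry Topology CohB1
open Groth.Agent Groth.Agent.VarietyB

namespace K426.ProjSets

open ProjCut

variable (k : Type u) [Field k] {n : ℕ}

/-- components and maximal points -/
theorem exists_of_component {W : Set ↥(ProjSpace n k)} (hW : IsClosed W) {C : Set W}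
    (hC : C ∈ irreducibleComponents W) :
    ∃ c : ProjSpace n k, c ∈ W ∧ (∀ z ∈ W, z ⤳ c → z = c) ∧
      topologicalKrullDim C = (DimSch.trd k (ProjSpace n k) c : WithBot ℕ∞) := by
  obtain ⟨c, -, h2, h3, h4⟩ := Cut.exists_of_mem_irreducibleComponents hW hC
  exact ⟨c, h2, h3, by rw [h4, DimKit.dim_closure k]⟩

/-- generic points -/
theorem exists_generic {Y : Set ↥(ProjSpace n k)} (hYc : IsClosed Y) (hYi : IsIrreducible Y) :
    ∃ ξ : ProjSpace n k, Y = closure {ξ} ∧
      topologicalKrullDim Y = (DimSch.trd k (ProjSpace n k) ξ : WithBot ℕ∞) := by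
  obtain ⟨ξ, hξ⟩ := QuasiSober.sober hYi hYc
  refine ⟨ξ, hξ.def.symm, ?_⟩
  rw [← DimKit.dim_closure k, hξ.def]

/-- the zero locus of a family of forms -/
def Z {r : ℕ} (f : Fin r → MvPolynomial (Fin (n + 1)) k) : Set ↥(ProjSpace n k) :=
  {z | ∀ i, f i ∈ idl z}

theorem Z_eq {r : ℕ} (f : Fin r → MvPolynomial (Fin (n + 1)) k) :
    Z k f = ProjectiveSpectrum.zeroLocus (polyGrading n k) (Set.range f) := by
  ext w
  exact (Set.range_subset_iff (s := (idl w : Set (MvPolynomial (Fin (n + 1)) k)))).symm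

theorem isClosed_Z {r : ℕ} (f : Fin r → MvPolynomial (Fin (n + 1)) k) : IsClosed (Z k f) := by
  rw [Z_eq]
  exact ProjectiveSpectrum.isClosed_zeroLocus (polyGrading n k) (Set.range f)

/-- Components of `X ∩ V₊(f₁, …, f_r)` have codimension at most `r`. -/
theorem dim_le_add {r : ℕ} {Y : Set ↥(ProjSpace n k)} (hYc : IsClosed Y) (hYi : IsIrreducible Y)
    (f : Fin r → MvPolynomial (Fin (n + 1)) k) (d : Fin r → ℕ) (hf : ∀ i, (f i).IsHomogeneous (d i))
    (C : Set ↥(Y ∩ Z k f)) (hC : C ∈ irreducibleComponents ↥(Y ∩ Z k f)) :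
    topologicalKrullDim ↥Y ≤ topologicalKrullDim ↥C + (r : WithBot ℕ∞) := by
  obtain ⟨ξ, hξ, hdim⟩ := exists_generic k hYc hYi
  obtain ⟨c, hcW, hmax, hcd⟩ := exists_of_component k (hYc.inter (isClosed_Z k f)) hC
  rw [hdim, hcd]
  have hξc : ξ ⤳ c := by
    rw [specializes_iff_mem_closure, ← hξ]; exact hcW.1
  have h := trd_le_add k hξc f d hf hcW.2 (fun z hz hz' hfz =>
    hmax z ⟨by rw [hξ]; exact specializes_iff_mem_closure.mp hz, hfz⟩ hz')
  exact_mod_cast h

/-- `X ∩ V₊(f₁, …, f_r)` is not empty if `dim X ≥ r`. -/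
theorem inter_nonempty {r : ℕ} {Y : Set ↥(ProjSpace n k)} (hYc : IsClosed Y) (hYi : IsIrreducible Y)
    (f : Fin r → MvPolynomial (Fin (n + 1)) k) (d : Fin r → ℕ) (hf : ∀ i, (f i).IsHomogeneous (d i))
    (hd : ∀ i, 0 < d i) (hr : (r : WithBot ℕ∞) ≤ topologicalKrullDim ↥Y) :
    (Y ∩ Z k f).Nonempty := by
  obtain ⟨ξ, hξ, hdim⟩ := exists_generic k hYc hYi
  rw [hdim] at hr
  have hr' : r ≤ DimSch.trd k (ProjSpace n k) ξ := by exact_mod_cast hr
  obtain ⟨z, hz, hfz⟩ := exists_common_zero ξ hr' f d hd hf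
  exact ⟨z, by rw [hξ]; exact specializes_iff_mem_closure.mp hz, hfz⟩

end K426.ProjSets
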