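import Groth.Agent.CAlgX.K581.HomDim
import Groth.Agent.Variety.K426.HomFactor
import Mathlib.RingTheory.Ideal.Span
import Mathlib.LinearAlgebra.Dimension.RankNullity
import Mathlib.LinearAlgebra.FiniteDimensional.Lemmas
import Mathlib.Tactic.LinearCombination
import Mathlib.Tactic.Ring
import Mathlib.Tactic.Linarith

/-!
Two coprime forms in three variables: the graded pieces of the quotient.
-/

set_option autoImplicit false

universe u

namespace K426.BezoutGr

open MvPolynomial

variable {k : Type u} [Field k]

/-- Syzygies of two coprime elements. -/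
theorem exists_syz {R : Type*} [CommRing R] [IsDomain R] [UniqueFactorizationMonoid R] {f g : R}
    (hg0 : g ≠ 0) (hfg : IsRelPrime f g) {a b : R} (h : a * f + b * g = 0) :
    ∃ c, a = c * g ∧ b = -(c * f) := by
  have h1 : g ∣ a * f := ⟨-b, by linear_combination h⟩
  obtain ⟨c, hc⟩ := hfg.symm.dvd_of_dvd_mul_right h1
  refine ⟨c, by rw [hc]; ring, ?_⟩
  have h2 : g * (b + c * f) = 0 := by
    rw [hc] at h
    linear_combination h
  rcases mul_eq_zero.mp h2 with h3 | h3
  · exact absurd h3 hg0
  · linear_combination h3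

theorem two_mul_choose (t : ℕ) : 2 * (t + 2).choose 2 = (t + 2) * (t + 1) := by
  induction t with
  | zero => rfl
  | succ t ih =>
    have h : (t + 1 + 2).choose 2 = (t + 2).choose 1 + (t + 2).choose 2 := rfl
    rw [h, mul_add, ih, Nat.choose_one_right]
    ring

theorem choose_identity (n m e : ℕ) :
    (n + m + e + 2).choose 2 + (e + 2).choose 2 =
      (m + e + 2).choose 2 + (n + e + 2).choose 2 + n * m := by
  have h1 := two_mul_choose (n + m + e)
  have h2 := two_mul_choose e
  have h3 := two_mul_choose (m + e)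
  have h4 := two_mul_choose (n + e)
  nlinarith

variable {f g : MvPolynomial (Fin 3) k} {n m : ℕ}

local notation "S" d => homogeneousSubmodule (Fin 3) k d

/-- `(a, b) ↦ a f + b g`. -/
noncomputable def Phi (hf : f.IsHomogeneous n) (hg : g.IsHomogeneous m) (e : ℕ) :
    (↥(S (m + e)) × ↥(S (n + e))) →ₗ[k] ↥(S (n + m + e)) where
  toFun x := ⟨x.1.1 * f + x.2.1 * g, by
    refine Submodule.add_mem _ ?_ ?_
    · rw [mem_homogeneousSubmodule]
      have h := (mem_homogeneousSubmodule _ _).mp x.1.2
      exact (show m + e + n = n + m + e by ring) ▸ h.mul hf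
    · rw [mem_homogeneousSubmodule]
      have h := (mem_homogeneousSubmodule _ _).mp x.2.2
      exact (show n + e + m = n + m + e by ring) ▸ h.mul hg⟩
  map_add' x y := by
    apply Subtype.ext
    change (x.1.1 + y.1.1) * f + (x.2.1 + y.2.1) * g =
      (x.1.1 * f + x.2.1 * g) + (y.1.1 * f + y.2.1 * g)
    ring
  map_smul' c x := by
    apply Subtype.ext
    change (c • x.1.1) * f + (c • x.2.1) * g = c • (x.1.1 * f + x.2.1 * g)
    rw [smul_add, smul_mul_assoc, smul_mul_assoc]

/-- `c ↦ (c g, - c f)`. -/
noncomputable def Psi (hf : f.IsHomogeneous n) (hg : g.IsHomogeneous m) (e : ℕ) :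
    ↥(S e) →ₗ[k] (↥(S (m + e)) × ↥(S (n + e))) where
  toFun x := (⟨x.1 * g, by
    rw [mem_homogeneousSubmodule]
    have h := (mem_homogeneousSubmodule _ _).mp x.2
    exact (show e + m = m + e by ring) ▸ h.mul hg⟩, ⟨-(x.1 * f), by
    refine Submodule.neg_mem _ ?_
    rw [mem_homogeneousSubmodule]
    have h := (mem_homogeneousSubmodule _ _).mp x.2
    exact (show e + n = n + e by ring) ▸ h.mul hf⟩)
  map_add' x y := by
    apply Prod.ext
    · apply Subtype.ext
      change (x.1 + y.1) * g = x.1 * g + y.1 * g
      ring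
    · apply Subtype.ext
      change -((x.1 + y.1) * f) = -(x.1 * f) + -(y.1 * f)
      ring
  map_smul' c x := by
    apply Prod.ext
    · apply Subtype.ext
      change (c • x.1) * g = c • (x.1 * g)
      rw [smul_mul_assoc]
    · apply Subtype.ext
      change -((c • x.1) * f) = c • (-(x.1 * f))
      rw [smul_mul_assoc, smul_neg]

theorem Psi_injective (hf : f.IsHomogeneous n) (hg : g.IsHomogeneous m) (hg0 : g ≠ 0) (e : ℕ) :
    Function.Injective (Psi hf hg e) := by
  rw [← LinearMap.ker_eq_bot, LinearMap.ker_eq_bot']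
  intro x hx
  have h1 : x.1 * g = 0 := congrArg (fun y => y.1.1) hx
  apply Subtype.ext
  exact (mul_eq_zero.mp h1).resolve_right hg0

theorem range_Psi (hf : f.IsHomogeneous n) (hg : g.IsHomogeneous m) (hg0 : g ≠ 0)
    (hfg : IsRelPrime f g) (e : ℕ) :
    LinearMap.range (Psi hf hg e) = LinearMap.ker (Phi hf hg e) := by
  apply le_antisymm
  · rintro _ ⟨x, rfl⟩
    rw [LinearMap.mem_ker]
    apply Subtype.ext
    change (x.1 * g) * f + (-(x.1 * f)) * g = 0
    ring
  · rintro ⟨a, b⟩ hab
    rw [LinearMap.mem_ker] at hab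
    have h1 : a.1 * f + b.1 * g = 0 := congrArg Subtype.val hab
    obtain ⟨c, hc1, hc2⟩ := exists_syz hg0 hfg h1
    have ha : a.1 = homogeneousComponent e c * g := by
      have h2 := K581.HomDim.homogeneousComponent_mul g c hg e
      rw [mul_comm g c, ← hc1, homogeneousComponent_eq_self ((mem_homogeneousSubmodule _ _).mp a.2)] at h2
      rw [h2, mul_comm]
    have hcc : c = homogeneousComponent e c := by
      have h3 : (c - homogeneousComponent e c) * g = 0 := by
        rw [sub_mul, ← hc1, ← ha, sub_self]
      exact sub_eq_zero.mp ((mul_eq_zero.mp h3).resolve_right hg0)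
    refine ⟨⟨homogeneousComponent e c, homogeneousComponent_mem _ _⟩, ?_⟩
    apply Prod.ext
    · exact Subtype.ext ha.symm
    · apply Subtype.ext
      change -(homogeneousComponent e c * f) = b.1
      rw [← hcc, hc2]

theorem range_Phi (hf : f.IsHomogeneous n) (hg : g.IsHomogeneous m) (e : ℕ) :
    Submodule.comap (S (n + m + e)).subtype
      ((Ideal.span ({f, g} : Set (MvPolynomial (Fin 3) k))).restrictScalars k) =
    LinearMap.range (Phi hf hg e) := by
  ext h
  rw [Submodule.mem_comap, Submodule.restrictScalars_mem, Submodule.coe_subtype,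
    Ideal.mem_span_pair]
  constructor
  · rintro ⟨a, b, hab⟩
    refine ⟨(⟨homogeneousComponent (m + e) a, homogeneousComponent_mem _ _⟩,
      ⟨homogeneousComponent (n + e) b, homogeneousComponent_mem _ _⟩), ?_⟩
    apply Subtype.ext
    change homogeneousComponent (m + e) a * f + homogeneousComponent (n + e) b * g = h.1
    have h1 := homogeneousComponent_eq_self ((mem_homogeneousSubmodule _ _).mp h.2)
    rw [← hab, map_add] at h1
    rw [← hab, ← h1, mul_comm a f, mul_comm b g, add_assoc n m e,
      K581.HomDim.homogeneousComponent_mul f a hf (m + e), show n + (m + e) = m + (n + e) by ring,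
      K581.HomDim.homogeneousComponent_mul g b hg (n + e)]
    ring
  · rintro ⟨⟨a, b⟩, rfl⟩
    exact ⟨a.1, b.1, rfl⟩

theorem finrank_quotient (hf : f.IsHomogeneous n) (hg : g.IsHomogeneous m) (hg0 : g ≠ 0)
    (hfg : IsRelPrime f g) (e : ℕ) :
    Module.finrank k (↥(S (n + m + e)) ⧸ Submodule.comap (S (n + m + e)).subtype
      ((Ideal.span ({f, g} : Set (MvPolynomial (Fin 3) k))).restrictScalars k)) = n * m := by
  have : ∀ d, Module.Finite k ↥(S d) := K581.HomDim.finite_homogeneous k 2
  rw [range_Phi hf hg e]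
  have h1 := Submodule.finrank_quotient_add_finrank (LinearMap.range (Phi hf hg e))
  have h2 := LinearMap.finrank_range_add_finrank_ker (Phi hf hg e)
  have h3 := LinearMap.finrank_range_of_inj (Psi_injective hf hg hg0 e)
  rw [range_Psi hf hg hg0 hfg e] at h3
  rw [h3, Module.finrank_prod, K581.HomDim.finrank_homogeneous k 2,
    K581.HomDim.finrank_homogeneous k 2, K581.HomDim.finrank_homogeneous k 2] at h2
  rw [K581.HomDim.finrank_homogeneous k 2] at h1
  have h4 := choose_identity n m e
  omega

end K426.BezoutGr
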