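import Groth.Agent.Variety.K426.BezoutGr
import Mathlib.RingTheory.Ideal.Quotient.Operations

/-!
The affine count in Bezout's theorem for two plane curves.
-/

set_option autoImplicit false
set_option maxHeartbeats 400000

universe u

namespace K426.BezoutAff

open MvPolynomial

variable {k : Type u} [Field k]

/-- substitute `t` for the last variable -/
noncomputable def ev (t : MvPolynomial (Fin 2) k) : MvPolynomial (Fin 3) k →ₐ[k] MvPolynomial (Fin 2) k :=
  aeval (Fin.cons (X 0) (Fin.cons (X 1) (Fin.cons t Fin.elim0)) : Fin 3 → MvPolynomial (Fin 2) k)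

/-- the inclusion of polynomials in the first two variables -/
noncomputable def inc : MvPolynomial (Fin 2) k →ₐ[k] MvPolynomial (Fin 3) k :=
  aeval (fun i : Fin 2 => X i.castSucc)

theorem ev_X_castSucc (t : MvPolynomial (Fin 2) k) (i : Fin 2) : ev t (X i.castSucc) = X i := by
  unfold ev
  rw [aeval_X]
  fin_cases i <;> rfl

theorem ev_X_two (t : MvPolynomial (Fin 2) k) : ev t (X 2) = t := by
  unfold ev
  rw [aeval_X]
  rfl

theorem ev_inc (t p : MvPolynomial (Fin 2) k) : ev t (inc p) = p := by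
  have h : (ev t).comp inc = AlgHom.id k _ := by
    apply MvPolynomial.algHom_ext
    intro i
    rw [AlgHom.comp_apply, inc, aeval_X, ev_X_castSucc]
    rfl
  exact DFunLike.congr_fun h p

theorem dvd_sub (t : MvPolynomial (Fin 2) k) (h : MvPolynomial (Fin 3) k) :
    (X 2 - inc t) ∣ h - inc (ev t h) := by
  induction h using MvPolynomial.induction_on with
  | C a =>
    have h1 : ev t (C a) = C a := (ev t).commutes a
    have h2 : inc (C a : MvPolynomial (Fin 2) k) = C a := inc.commutes a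
    rw [h1, h2, sub_self]
    exact dvd_zero _
  | add p q hp hq =>
    rw [map_add, map_add]
    have := dvd_add hp hq
    convert this using 1
    ring
  | mul_X p i hp =>
    rw [map_mul, map_mul]
    have h1 : (X 2 - inc t) ∣ (X i : MvPolynomial (Fin 3) k) - inc (ev t (X i)) := by
      fin_cases i
      · have h0 : ev t (X (0 : Fin 3)) = X 0 := ev_X_castSucc t 0
        have h0' : inc (X 0 : MvPolynomial (Fin 2) k) = X 0 := by
          rw [inc, aeval_X]; rfl
        change _ ∣ X 0 - inc (ev t (X (0 : Fin 3)))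
        rw [h0, h0', sub_self]
        exact dvd_zero _
      · have h0 : ev t (X (1 : Fin 3)) = X 1 := ev_X_castSucc t 1
        have h0' : inc (X 1 : MvPolynomial (Fin 2) k) = X 1 := by
          rw [inc, aeval_X]; rfl
        change _ ∣ X 1 - inc (ev t (X (1 : Fin 3)))
        rw [h0, h0', sub_self]
        exact dvd_zero _
      · change _ ∣ X 2 - inc (ev t (X (2 : Fin 3)))
        rw [ev_X_two]
    have h2 : p * X i - inc (ev t p) * inc (ev t (X i)) =
        (p - inc (ev t p)) * X i + inc (ev t p) * (X i - inc (ev t (X i))) := by ring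
    rw [h2]
    exact dvd_add (hp.mul_right _) (h1.mul_left _)

theorem X_dvd_of_ev_zero {h : MvPolynomial (Fin 3) k} (hh : ev 0 h = 0) : X 2 ∣ h := by
  have h1 := dvd_sub 0 h
  rwa [hh, map_zero, sub_zero, sub_zero] at h1

theorem eq_zero_of_ev_one {h : MvPolynomial (Fin 3) k} {d : ℕ} (hd : h.IsHomogeneous d)
    (hh : ev 1 h = 0) : h = 0 := by
  have h1 := dvd_sub 1 h
  rw [hh, map_zero, sub_zero, map_one] at h1
  by_contra h0
  obtain ⟨a, ha⟩ := HomFactor.isHomogeneous_of_dvd hd h0 h1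
  have c0 : coeff 0 (X 2 - 1 : MvPolynomial (Fin 3) k) ≠ 0 := by
    rw [coeff_sub, coeff_zero_X, coeff_zero_one, zero_sub]
    exact neg_ne_zero.mpr one_ne_zero
  have c1 : coeff (Finsupp.single 2 1) (X 2 - 1 : MvPolynomial (Fin 3) k) ≠ 0 := by
    have hne : (0 : Fin 3 →₀ ℕ) ≠ Finsupp.single 2 1 := by
      intro h
      have := DFunLike.congr_fun h 2
      simp at this
    rw [coeff_sub, coeff_one, if_neg hne, sub_zero]
    simp
  have e0 := ha c0
  have e1 := ha c1
  rw [map_zero] at e0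
  rw [← e0] at e1
  simp [Finsupp.weight, Finsupp.linearCombination_single] at e1

theorem exists_homogenization (a : MvPolynomial (Fin 2) k) :
    ∃ N₀ : ℕ, ∀ N, N₀ ≤ N → ∃ a' : MvPolynomial (Fin 3) k, a'.IsHomogeneous N ∧ ev 1 a' = a := by
  induction a using MvPolynomial.induction_on with
  | C c =>
    refine ⟨0, fun N _ => ⟨C c * X 2 ^ N, ?_, ?_⟩⟩
    · have := (isHomogeneous_C (Fin 3) c).mul (isHomogeneous_X_pow (R := k) (2 : Fin 3) N)
      rwa [zero_add] at this
    · rw [map_mul, map_pow, ev_X_two, one_pow, mul_one]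
      exact (ev 1).commutes c
  | add p q hp hq =>
    obtain ⟨N₁, h1⟩ := hp
    obtain ⟨N₂, h2⟩ := hq
    refine ⟨max N₁ N₂, fun N hN => ?_⟩
    obtain ⟨p', hp', hp''⟩ := h1 N ((le_max_left _ _).trans hN)
    obtain ⟨q', hq', hq''⟩ := h2 N ((le_max_right _ _).trans hN)
    exact ⟨p' + q', hp'.add hq', by rw [map_add, hp'', hq'']⟩
  | mul_X p i hp =>
    obtain ⟨N₁, h1⟩ := hp
    refine ⟨N₁ + 1, fun N hN => ?_⟩
    obtain ⟨N, rfl⟩ := Nat.exists_eq_add_of_le hN
    obtain ⟨p', hp', hp''⟩ := h1 (N₁ + N) (by omega)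
    refine ⟨p' * X i.castSucc, ?_, ?_⟩
    · have := hp'.mul (isHomogeneous_X k i.castSucc)
      rwa [show N₁ + N + 1 = N₁ + 1 + N by ring] at this
    · rw [map_mul, hp'', ev_X_castSucc]

section

variable {f g : MvPolynomial (Fin 3) k} {n m : ℕ}

theorem mem_of_X_mul_mem (hT : IsRelPrime (ev 0 f) (ev 0 g)) (hg : ev 0 g ≠ 0)
    {u : MvPolynomial (Fin 3) k} (hu : X 2 * u ∈ Ideal.span ({f, g} : Set (MvPolynomial (Fin 3) k))) :
    u ∈ Ideal.span ({f, g} : Set (MvPolynomial (Fin 3) k)) := by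
  rw [Ideal.mem_span_pair] at hu ⊢
  obtain ⟨a, b, hab⟩ := hu
  have h1 : ev 0 a * ev 0 f + ev 0 b * ev 0 g = 0 := by
    rw [← map_mul, ← map_mul, ← map_add, hab, map_mul, ev_X_two, zero_mul]
  obtain ⟨c, hc1, hc2⟩ := BezoutGr.exists_syz hg hT h1
  obtain ⟨a', ha'⟩ : X 2 ∣ a - inc c * g := X_dvd_of_ev_zero (by
    rw [map_sub, map_mul, ev_inc, hc1, sub_self])
  obtain ⟨b', hb'⟩ : X 2 ∣ b + inc c * f := X_dvd_of_ev_zero (by
    rw [map_add, map_mul, ev_inc, hc2, neg_add_cancel])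
  refine ⟨a', b', ?_⟩
  have hX : (X 2 : MvPolynomial (Fin 3) k) ≠ 0 := X_ne_zero 2
  apply mul_left_cancel₀ hX
  rw [← hab]
  linear_combination (-f) * ha' + (-g) * hb'

theorem mem_of_X_pow_mul_mem (hT : IsRelPrime (ev 0 f) (ev 0 g)) (hg : ev 0 g ≠ 0)
    {u : MvPolynomial (Fin 3) k} (N : ℕ)
    (hu : X 2 ^ N * u ∈ Ideal.span ({f, g} : Set (MvPolynomial (Fin 3) k))) :
    u ∈ Ideal.span ({f, g} : Set (MvPolynomial (Fin 3) k)) := by
  induction N with
  | zero => simpa using hu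
  | succ N ih =>
    refine ih (mem_of_X_mul_mem hT hg ?_)
    rwa [← mul_assoc, ← pow_succ']

theorem mem_of_ev_mem (hf : f.IsHomogeneous n) (hg : g.IsHomogeneous m)
    (hT : IsRelPrime (ev 0 f) (ev 0 g)) (hg0 : ev 0 g ≠ 0)
    {h : MvPolynomial (Fin 3) k} {d : ℕ} (hh : h.IsHomogeneous d)
    (hm : ev 1 h ∈ Ideal.span ({ev 1 f, ev 1 g} : Set (MvPolynomial (Fin 2) k))) :
    h ∈ Ideal.span ({f, g} : Set (MvPolynomial (Fin 3) k)) := by
  rw [Ideal.mem_span_pair] at hm
  obtain ⟨a, b, hab⟩ := hm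
  obtain ⟨N₁, h1⟩ := exists_homogenization a
  obtain ⟨N₂, h2⟩ := exists_homogenization b
  let N := N₁ + N₂ + d
  obtain ⟨a', ha', ha''⟩ := h1 (N + m) (by omega)
  obtain ⟨b', hb', hb''⟩ := h2 (N + n) (by omega)
  refine mem_of_X_pow_mul_mem hT hg0 (N₁ + N₂ + n + m) ?_
  have e1 : (X 2 ^ (N₁ + N₂ + n + m) * h).IsHomogeneous (N + n + m) := by
    have := (isHomogeneous_X_pow (R := k) (2 : Fin 3) (N₁ + N₂ + n + m)).mul hh
    rwa [show N₁ + N₂ + n + m + d = N + n + m by omega] at this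
  have e2 : (a' * f + b' * g).IsHomogeneous (N + n + m) := by
    refine IsHomogeneous.add ?_ ?_
    · have := ha'.mul hf
      rwa [show N + m + n = N + n + m by ring] at this
    · exact hb'.mul hg
  have e3 : X 2 ^ (N₁ + N₂ + n + m) * h = a' * f + b' * g := by
    rw [← sub_eq_zero]
    refine eq_zero_of_ev_one (e1.sub e2) ?_
    rw [map_sub, map_add, map_mul, map_mul, map_mul, map_pow, ev_X_two, one_pow, one_mul, ha'', hb'',
      hab, sub_self]
  rw [e3, Ideal.mem_span_pair]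
  exact ⟨a', b', rfl⟩

theorem not_isUnit_of_isHomogeneous {σ : Type*} {p : MvPolynomial σ k} {n : ℕ} (hn : 0 < n)
    (hp : p.IsHomogeneous n) : ¬ IsUnit p := by
  intro hu
  have h1 : IsUnit (constantCoeff p) := hu.map constantCoeff
  have h2 : constantCoeff p = 0 := by
    by_contra hcon
    have h3 := hp (d := 0) hcon
    simp at h3
    omega
  rw [h2] at h1
  exact not_isUnit_zero h1

theorem ev_zero_isHomogeneous (hf : f.IsHomogeneous n) : (ev 0 f).IsHomogeneous n := by
  have h := IsHomogeneous.aeval hf (Fin.cons (X 0) (Fin.cons (X 1) (Fin.cons 0 Fin.elim0)) :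
    Fin 3 → MvPolynomial (Fin 2) k) (n := 1) (by
      intro i
      fin_cases i
      · exact isHomogeneous_X k 0
      · exact isHomogeneous_X k 1
      · exact isHomogeneous_zero _ _ _)
  rwa [one_mul] at h

theorem ev_zero_ne (hn : 0 < n) (hf : f.IsHomogeneous n)
    (hT : IsRelPrime (ev 0 f) (ev 0 g)) : ev 0 g ≠ 0 := by
  intro h
  rw [h] at hT
  exact not_isUnit_of_isHomogeneous hn (ev_zero_isHomogeneous hf) (hT dvd_rfl (dvd_zero _))

local notation "S" d => homogeneousSubmodule (Fin 3) k d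
local notation "Q" => (MvPolynomial (Fin 2) k ⧸ Ideal.span ({ev 1 f, ev 1 g} : Set (MvPolynomial (Fin 2) k)))

variable (f g) in
/-- `h ↦ h(X, Y, 1)` modulo the two equations -/
noncomputable def L (d : ℕ) : ↥(S d) →ₗ[k] Q :=
  (Ideal.Quotient.mkₐ k _).toLinearMap ∘ₗ (ev 1).toLinearMap ∘ₗ (S d).subtype

theorem ker_L (hf : f.IsHomogeneous n) (hg : g.IsHomogeneous m)
    (hT : IsRelPrime (ev 0 f) (ev 0 g)) (hg0 : ev 0 g ≠ 0) (d : ℕ) :
    LinearMap.ker (L f g d) = Submodule.comap (S d).subtype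
      ((Ideal.span ({f, g} : Set (MvPolynomial (Fin 3) k))).restrictScalars k) := by
  ext h
  rw [LinearMap.mem_ker, Submodule.mem_comap, Submodule.restrictScalars_mem, Submodule.coe_subtype]
  change Ideal.Quotient.mk _ (ev 1 h.1) = 0 ↔ _
  rw [Ideal.Quotient.eq_zero_iff_mem]
  constructor
  · exact fun hm => mem_of_ev_mem hf hg hT hg0 ((mem_homogeneousSubmodule _ _).mp h.2) hm
  · intro hm
    rw [Ideal.mem_span_pair] at hm ⊢
    obtain ⟨a, b, hab⟩ := hm
    exact ⟨ev 1 a, ev 1 b, by rw [← hab, map_add, map_mul, map_mul]⟩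

theorem range_L_le (d : ℕ) : LinearMap.range (L f g d) ≤ LinearMap.range (L f g (d + 1)) := by
  rintro _ ⟨h, rfl⟩
  have h1 : (h.1 * X 2).IsHomogeneous (d + 1) :=
    ((mem_homogeneousSubmodule _ _).mp h.2).mul (isHomogeneous_X k (2 : Fin 3))
  have h2 : ev 1 (h.1 * X 2) = ev 1 h.1 := by
    rw [map_mul, ev_X_two, mul_one]
  exact ⟨⟨h.1 * X 2, (mem_homogeneousSubmodule _ _).mpr h1⟩,
    congrArg (Ideal.Quotient.mk (Ideal.span ({ev 1 f, ev 1 g} : Set (MvPolynomial (Fin 2) k)))) h2⟩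

theorem finrank_eq (hn : 0 < n) (hf : f.IsHomogeneous n) (hg : g.IsHomogeneous m)
    (hg00 : g ≠ 0) (hfg : IsRelPrime f g)
    (hT : IsRelPrime (ev 0 f) (ev 0 g)) : Module.finrank k Q = n * m := by
  have hg0 := ev_zero_ne hn hf hT
  have hfin : ∀ d, Module.Finite k ↥(S d) := K581.HomDim.finite_homogeneous k 2
  have h1 : ∀ e, Module.finrank k (LinearMap.range (L f g (n + m + e))) = n * m := by
    intro e
    rw [← (LinearMap.quotKerEquivRange (L f g (n + m + e))).finrank_eq,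
      ker_L hf hg hT hg0, BezoutGr.finrank_quotient hf hg hg00 hfg e]
  have h2 : ∀ e, LinearMap.range (L f g (n + m + e)) = LinearMap.range (L f g (n + m)) := by
    intro e
    induction e with
    | zero => rfl
    | succ e ih =>
      rw [← ih]
      exact (Submodule.eq_of_le_of_finrank_eq (range_L_le (n + m + e)) (by
        rw [h1 e]; exact (h1 (e + 1)).symm)).symm
  have h3 : LinearMap.range (L f g (n + m)) = ⊤ := by
    rw [eq_top_iff]
    intro x _
    obtain ⟨a, rfl⟩ := Ideal.Quotient.mk_surjective x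
    obtain ⟨N, hN⟩ := exists_homogenization a
    obtain ⟨a', ha', ha''⟩ := hN (n + m + N) (by omega)
    rw [← h2 N]
    refine ⟨⟨a', (mem_homogeneousSubmodule _ _).mpr ha'⟩, ?_⟩
    change Ideal.Quotient.mk _ (ev 1 a') = _
    rw [ha'']
  rw [← h1 0, add_zero, h3, finrank_top]

end

end K426.BezoutAff
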