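import Groth.Agent.Variety.K426.CommonLoc
import Groth.Agent.VarietyB.ResMap
import Groth.Agent.VarietyB.DimSch
import Mathlib.AlgebraicGeometry.FunctionField
import Mathlib.AlgebraicGeometry.OpenImmersion

/-!
An integral scheme locally of finite type over `k` and a finitely generated algebra with the same
function field have isomorphic nonempty open subschemes.
-/

set_option autoImplicit false

universe u

open CategoryTheory AlgebraicGeometry

namespace K426.ModelIso

open Groth.Agent.VarietyB

variable (k : Type u) [Field k]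

theorem toSections_eq (X : Scheme.{u}) [X.Over (Spec (CommRingCat.of k))] (U : X.Opens) :
    CommRingCat.ofHom (DimSch.toSections k X U) = (Scheme.ΓSpecIso (CommRingCat.of k)).inv ≫
      ((X ↘ Spec (CommRingCat.of k)).appLE ⊤ U (by simp)) := by
  ext c
  simp [DimSch.toSections, Coh.toGlobal, Scheme.Hom.appLE]

theorem fromSpec_comp (X : Scheme.{u}) [X.Over (Spec (CommRingCat.of k))] {U : X.Opens}
    (hU : IsAffineOpen U) :
    hU.fromSpec ≫ (X ↘ Spec (CommRingCat.of k)) =
      Spec.map (CommRingCat.ofHom (DimSch.toSections k X U)) := by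
  rw [toSections_eq, Spec.map_comp, ← Scheme.isoSpec_Spec_inv, ← IsAffineOpen.fromSpec_top,
    IsAffineOpen.SpecMap_appLE_fromSpec]

attribute [local instance] Curv2.stalkAlgebra

theorem isLocalization' {F : Type*} [Field F] [Algebra k F] {A : Type*} [CommRing A] [Algebra k A]
    [Algebra A F] [IsScalarTower k A F] [IsFractionRing A F] {a : A} (ha : a ≠ 0)
    (C : Subalgebra k F) (hC : C = CommonLoc.L (k := k) (F := F) A a) (i : A →+* C)
    (hi : ∀ x, (i x : F) = algebraMap A F x) :
    letI := i.toAlgebra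
    IsLocalization.Away a C := by
  subst hC
  have : i = CommonLoc.incl a := by
    ext x
    exact hi x
  subst this
  exact CommonLoc.isLocalization a ha

theorem exists_iso_aux (X S : Scheme.{u}) (p : X ⟶ S) (F : Type u) [Field F] [Algebra k F]
    (A B : Type u) [CommRing A] [CommRing B]
    [IsDomain A] [IsDomain B] [Algebra k A] [Algebra k B] [Algebra.FiniteType k A]
    [Algebra.FiniteType k B] [Algebra A F] [Algebra B F] [IsScalarTower k A F]
    [IsScalarTower k B F] [IsFractionRing A F] [IsFractionRing B F]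
    (j : Spec (CommRingCat.of B) ⟶ X) [IsOpenImmersion j] (t : Spec (CommRingCat.of k) ⟶ S)
    (hj : j ≫ p = Spec.map (CommRingCat.ofHom (algebraMap k B)) ≫ t) :
    ∃ (U : X.Opens) (V : (Spec (CommRingCat.of A)).Opens) (e : (U : Scheme.{u}) ≅ (V : Scheme.{u})),
        (U : Set X).Nonempty ∧ (V : Set (Spec (CommRingCat.of A))).Nonempty ∧
        e.hom ≫ V.ι ≫ Spec.map (CommRingCat.ofHom (algebraMap k A)) ≫ t = U.ι ≫ p := by
  obtain ⟨a, b, ha, hb, hab⟩ := CommonLoc.exists_common (k := k) (F := F) A B
  let C : Subalgebra k F := CommonLoc.L (k := k) (F := F) A a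
  let iA : A →+* C := CommonLoc.incl (k := k) (F := F) a
  let iB : B →+* C := (algebraMap B F).codRestrict C fun x => by
    have h := CommonLoc.algebraMap_mem_L (k := k) (F := F) b x
    rw [← hab] at h
    exact h
  have hA : IsOpenImmersion (Spec.map (CommRingCat.ofHom iA)) := by
    let _ := iA.toAlgebra
    have : IsLocalization.Away a C := CommonLoc.isLocalization a ha
    exact IsOpenImmersion.of_isLocalization a
  have hB : IsOpenImmersion (Spec.map (CommRingCat.ofHom iB)) := by
    let _ := iB.toAlgebra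
    have : IsLocalization.Away b C := isLocalization' k hb C hab iB fun x => rfl
    exact IsOpenImmersion.of_isLocalization b
  have hne : Nonempty (Spec (CommRingCat.of C)) := inferInstance
  let f : Spec (CommRingCat.of C) ⟶ X := Spec.map (CommRingCat.ofHom iB) ≫ j
  let g : Spec (CommRingCat.of C) ⟶ Spec (CommRingCat.of A) := Spec.map (CommRingCat.ofHom iA)
  have hcomp : iA.comp (algebraMap k A) = iB.comp (algebraMap k B) := by
    ext x
    change algebraMap A F (algebraMap k A x) = algebraMap B F (algebraMap k B x)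
    rw [← IsScalarTower.algebraMap_apply, ← IsScalarTower.algebraMap_apply]
  refine ⟨f.opensRange, g.opensRange, f.isoOpensRange.symm ≪≫ g.isoOpensRange, ?_, ?_, ?_⟩
  · obtain ⟨x⟩ := hne
    exact ⟨f x, x, rfl⟩
  · obtain ⟨x⟩ := hne
    exact ⟨g x, x, rfl⟩
  · rw [Iso.trans_hom, Category.assoc, Scheme.Hom.isoOpensRange_hom_ι_assoc, Iso.symm_hom,
      ← Scheme.Hom.isoOpensRange_inv_comp f, Category.assoc, Category.assoc, hj,
      ← Spec.map_comp_assoc, ← Spec.map_comp_assoc, ← CommRingCat.ofHom_comp,
      ← CommRingCat.ofHom_comp, hcomp]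

theorem exists_iso (X : Scheme.{u}) [X.Over (Spec (CommRingCat.of k))] [IsIntegral X]
    [LocallyOfFiniteType (X ↘ Spec (CommRingCat.of k))] (A : Type u) [CommRing A] [IsDomain A]
    [Algebra k A] [Algebra.FiniteType k A] [Algebra A (X.presheaf.stalk (genericPoint X))]
    [IsScalarTower k A (X.presheaf.stalk (genericPoint X))]
    [IsFractionRing A (X.presheaf.stalk (genericPoint X))] :
    ∃ (U : X.Opens) (V : (Spec (CommRingCat.of A)).Opens) (e : (U : Scheme.{u}) ≅ (V : Scheme.{u})),
        (U : Set X).Nonempty ∧ (V : Set (Spec (CommRingCat.of A))).Nonempty ∧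
        e.hom ≫ V.ι ≫ Spec.map (CommRingCat.ofHom (algebraMap k A)) =
          U.ι ≫ (X ↘ Spec (CommRingCat.of k)) := by
  obtain ⟨_, ⟨U0, hU0 : IsAffineOpen U0, rfl⟩, hgen, -⟩ :=
    X.isBasis_affineOpens.exists_subset_of_mem_open (a := genericPoint X) (Set.mem_univ _) isOpen_univ
  have _ : Nonempty U0 := ⟨⟨_, hgen⟩⟩
  let _ := DimSch.secAlgebra k U0
  have _ : Algebra.FiniteType k Γ(X, U0) := DimSch.toSections_finiteType k X hU0
  have _ : IsFractionRing Γ(X, U0) (X.presheaf.stalk (genericPoint X)) :=
    functionField_isFractionRing_of_isAffineOpen X U0 hU0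
  have _ : IsScalarTower k Γ(X, U0) (X.presheaf.stalk (genericPoint X)) :=
    IsScalarTower.of_algebraMap_eq fun c => (DimSch.germ_toSections k X U0 _ hgen c).symm
  obtain ⟨U, V, e, h1, h2, h3⟩ := exists_iso_aux k X (Spec (CommRingCat.of k)) (X ↘ Spec (CommRingCat.of k))
    (X.presheaf.stalk (genericPoint X)) A Γ(X, U0) hU0.fromSpec (𝟙 _) (by
      rw [Category.comp_id]
      exact fromSpec_comp k X hU0)
  refine ⟨U, V, e, h1, h2, ?_⟩
  rw [Category.comp_id] at h3
  exact h3

end K426.ModelIso
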