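import Mathlib.RingTheory.AlgebraicIndependent.Adjoin
import Mathlib.RingTheory.AlgebraicIndependent.TranscendenceBasis
import Mathlib.FieldTheory.PrimitiveElement
import Mathlib.FieldTheory.Minpoly.IsIntegrallyClosed
import Mathlib.FieldTheory.IntermediateField.Adjoin.Algebra
import Mathlib.RingTheory.Polynomial.UniqueFactorization
import Mathlib.RingTheory.EssentialFiniteness
import Mathlib.RingTheory.Algebraic.Integral
import Mathlib.RingTheory.Polynomial.RationalRoot

/-!
Hypersurface models of finitely generated separably generated field extensions.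
-/

set_option autoImplicit false

namespace K426.PrimEl

open MvPolynomial Polynomial

theorem exists_model {k F : Type*} [Field k] [Field F] [Algebra k F] [Algebra.EssFiniteType k F]
    (d : ℕ) (s : Fin d → F) (hs : IsTranscendenceBasis k s)
    (hsep : Algebra.IsSeparable ↥(IntermediateField.adjoin k (Set.range s)) F) :
    ∃ g : Polynomial (MvPolynomial (Fin d) k), g.Monic ∧
      Irreducible (g.map (algebraMap (MvPolynomial (Fin d) k) (FractionRing (MvPolynomial (Fin d) k)))) ∧
      (g.map (algebraMap (MvPolynomial (Fin d) k) (FractionRing (MvPolynomial (Fin d) k)))).Separable ∧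
      ∃ φ : AdjoinRoot g →ₐ[k] F, Function.Injective φ ∧
        ∀ z : F, ∃ x y : AdjoinRoot g, φ y ≠ 0 ∧ z * φ y = φ x := by
  let R := MvPolynomial (Fin d) k
  let K := FractionRing R
  let _ : Algebra R F := (aeval s : R →ₐ[k] F).toRingHom.toAlgebra
  have _ : IsScalarTower k R F := IsScalarTower.of_algebraMap_eq fun c =>
    ((aeval s : R →ₐ[k] F).commutes c).symm
  have hinj : Function.Injective (algebraMap R F) := algebraicIndependent_iff_injective_aeval.mp hs.1
  have _ : FaithfulSMul R F := (faithfulSMul_iff_algebraMap_injective R F).mpr hinj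
  let _ : Algebra K F := FractionRing.liftAlgebra R F
  have _ : IsScalarTower R K F := FractionRing.isScalarTower_liftAlgebra R F
  have _ : IsScalarTower k K F := IsScalarTower.of_algebraMap_eq fun c => by
    rw [IsScalarTower.algebraMap_apply k R K, ← IsScalarTower.algebraMap_apply R K F,
      ← IsScalarTower.algebraMap_apply k R F]
  have hsepK : Algebra.IsSeparable K F := by
    refine Algebra.IsSeparable.of_equiv_equiv (A₁ := ↥(IntermediateField.adjoin k (Set.range s)))
      (B₁ := F) (A₂ := K) (B₂ := F) hs.1.aevalEquivField.symm.toRingEquiv (RingEquiv.refl F) ?_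
    ext y
    obtain ⟨z, rfl⟩ := hs.1.aevalEquivField.surjective y
    change algebraMap K F (hs.1.aevalEquivField.symm (hs.1.aevalEquivField z)) =
      ((hs.1.aevalEquivField z : ↥(IntermediateField.adjoin k (Set.range s))) : F)
    rw [AlgEquiv.symm_apply_apply, hs.1.aevalEquivField_apply_coe]
    rfl
  have hess : Algebra.EssFiniteType K F := Algebra.EssFiniteType.of_comp k K F
  have halg : Algebra.IsAlgebraic K F := inferInstance
  have hfin : FiniteDimensional K F := Algebra.finite_of_essFiniteType_of_isAlgebraic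
  obtain ⟨θ, hθ⟩ := Field.exists_primitive_element K F
  have hθa : IsAlgebraic R θ := (IsFractionRing.isAlgebraic_iff R K F).mpr (halg.isAlgebraic θ)
  obtain ⟨y, hy0, hy⟩ := hθa.exists_integral_multiple
  have hy0' : algebraMap R K y ≠ 0 := fun h => hy0 (IsFractionRing.injective R K (by rw [h, map_zero]))
  have htop : IntermediateField.adjoin K {y • θ} = ⊤ := by
    rw [eq_top_iff, ← hθ, IntermediateField.adjoin_simple_le_iff]
    have h1 : θ = (algebraMap R K y)⁻¹ • (y • θ) := by
      rw [← algebraMap_smul K y θ, smul_smul, inv_mul_cancel₀ hy0', one_smul]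
    have h2 : (algebraMap R K y)⁻¹ • (y • θ) ∈ IntermediateField.adjoin K ({y • θ} : Set F) :=
      IntermediateField.smul_mem _ (IntermediateField.mem_adjoin_simple_self K (y • θ))
    rwa [← h1] at h2
  set θ' := y • θ with hθ'
  have hmin : minpoly K θ' = (minpoly R θ').map (algebraMap R K) :=
    minpoly.isIntegrallyClosed_eq_field_fractions' K hy
  have hintK : IsIntegral K θ' := hy.tower_top
  let φ : AdjoinRoot (minpoly R θ') →ₐ[R] F :=
    (Algebra.adjoin R ({θ'} : Set F)).val.comp (minpoly.equivAdjoin hy).toAlgHom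
  have hφinj : Function.Injective φ :=
    Subtype.val_injective.comp (minpoly.equivAdjoin hy).injective
  have hφR : ∀ r : R, φ (algebraMap R _ r) = algebraMap R F r := fun r => φ.commutes r
  have hφθ : ∃ t, φ t = θ' := by
    obtain ⟨t, ht⟩ := (minpoly.equivAdjoin hy).surjective ⟨θ', Algebra.self_mem_adjoin_singleton R θ'⟩
    exact ⟨t, congrArg Subtype.val ht⟩
  refine ⟨minpoly R θ', minpoly.monic hy, ?_, ?_, φ.restrictScalars k, hφinj, fun z => ?_⟩
  · rw [← hmin]
    exact minpoly.irreducible hintK
  · rw [← hmin]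
    exact Algebra.IsSeparable.isSeparable K θ'
  · suffices h : ∃ r : R, r ≠ 0 ∧ ∃ x, algebraMap R F r * z = φ x by
      obtain ⟨r, hr, x, hx⟩ := h
      refine ⟨x, algebraMap R _ r, ?_, ?_⟩
      · change φ (algebraMap R _ r) ≠ 0
        rw [hφR]
        exact fun h => hr (hinj (by rw [h, map_zero]))
      · change z * φ (algebraMap R _ r) = φ x
        rw [hφR, mul_comm, hx]
    have hz : z ∈ Algebra.adjoin K ({θ'} : Set F) := by
      rw [← IntermediateField.adjoin_simple_toSubalgebra_of_isAlgebraic (halg.isAlgebraic θ'), htop]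
      trivial
    induction hz using Algebra.adjoin_induction with
    | mem x hx =>
      rw [Set.mem_singleton_iff] at hx
      subst hx
      obtain ⟨t, ht⟩ := hφθ
      exact ⟨1, one_ne_zero, t, by rw [map_one, one_mul, ht]⟩
    | algebraMap c =>
      obtain ⟨⟨a, b⟩, hab⟩ := IsLocalization.surj (nonZeroDivisors R) c
      refine ⟨b, nonZeroDivisors.ne_zero b.2, algebraMap R _ a, ?_⟩
      rw [hφR, IsScalarTower.algebraMap_apply R K F, ← map_mul, mul_comm, hab,
        ← IsScalarTower.algebraMap_apply]
    | add u v _ _ hu hv =>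
      obtain ⟨r, hr, x, hx⟩ := hu
      obtain ⟨r', hr', x', hx'⟩ := hv
      refine ⟨r * r', mul_ne_zero hr hr', algebraMap R _ r' * x + algebraMap R _ r * x', ?_⟩
      rw [map_add, map_mul φ, map_mul φ, hφR, hφR, ← hx, ← hx', map_mul]
      ring
    | mul u v _ _ hu hv =>
      obtain ⟨r, hr, x, hx⟩ := hu
      obtain ⟨r', hr', x', hx'⟩ := hv
      refine ⟨r * r', mul_ne_zero hr hr', x * x', ?_⟩
      rw [map_mul φ, ← hx, ← hx', map_mul]
      ring

end K426.PrimEl
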