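import Groth.Prelude.Def_W4bk4gw11416BS
import Groth.Agent.CohqB.ProjBC
import Groth.Agent.Desc.MorDescent
import Groth.Agent.Flat2B.SmoothGeom
import Groth.Agent.Lefpen.H717.ProjIrr
import Groth.Agent.Ega3B.ProjProper
import Groth.Agent.Sga5.ProjSmooth
import Mathlib.AlgebraicGeometry.Geometrically.Irreducible
import Mathlib.AlgebraicGeometry.Morphisms.LocalFlatDescent
import Mathlib.RingTheory.TensorProduct.Basic

/-!
First properties of forms of projective space.
-/

set_option autoImplicit false

universe u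

open CategoryTheory CategoryTheory.Limits AlgebraicGeometry
open scoped TensorProduct

namespace K426.SBGeom

open Groth.Agent Groth.Agent.CohqB.ProjBC W4bk4gw11416

variable {k : Type u} [Field k] {X : Scheme.{u}} {p : X ⟶ Spec (CommRingCat.of k)}

theorem exists_sq {K : Type u} [CommRing K] [Algebra k K] {n : ℕ}
    (h : IsProjSpaceOver (baseChangeTo p K) n) :
    ∃ g : CohB1.ProjSpace n K ⟶ X, IsPullback g (CohB1.ProjSpace.toSpec n K) p
      (Spec.map (CommRingCat.ofHom (algebraMap k K))) := by
  obtain ⟨e, he⟩ := h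
  refine ⟨e.inv ≫ pullback.fst _ _, ?_⟩
  refine IsPullback.of_iso (IsPullback.of_hasPullback p
    (Spec.map (CommRingCat.ofHom (algebraMap k K)))) e (Iso.refl _) (Iso.refl _) (Iso.refl _) ?_ ?_ ?_ ?_
  · simp
  · rw [Iso.refl_hom, Category.comp_id]; exact he.symm
  · simp
  · simp

theorem isProjSpaceOver_of_sq {K : Type u} [CommRing K] [Algebra k K] {n : ℕ}
    (g : CohB1.ProjSpace n K ⟶ X) (h : IsPullback g (CohB1.ProjSpace.toSpec n K) p
      (Spec.map (CommRingCat.ofHom (algebraMap k K)))) :
    IsProjSpaceOver (baseChangeTo p K) n :=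
  ⟨h.isoPullback.symm, by
    rw [Iso.symm_hom]
    exact h.isoPullback_inv_snd⟩

theorem ext_sq {K : Type u} [CommRing K] [Algebra k K] {n : ℕ}
    {g : CohB1.ProjSpace n K ⟶ X} (h : IsPullback g (CohB1.ProjSpace.toSpec n K) p
      (Spec.map (CommRingCat.ofHom (algebraMap k K)))) (K' : Type u) [CommRing K'] [Algebra k K']
    [Algebra K K'] [IsScalarTower k K K'] :
    IsPullback (pmap (algebraMap K K') n ≫ g) (CohB1.ProjSpace.toSpec n K') p
      (Spec.map (CommRingCat.ofHom (algebraMap k K'))) := by
  have h := (isPullback_pmap (algebraMap K K') n).flip.paste_vert h.flip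
  rw [← Spec.map_comp, ← CommRingCat.ofHom_comp, ← IsScalarTower.algebraMap_eq] at h
  exact h.flip

theorem isProjSpaceOver_ext {K : Type u} [CommRing K] [Algebra k K] {n : ℕ}
    (h : IsProjSpaceOver (baseChangeTo p K) n) (K' : Type u) [CommRing K'] [Algebra k K']
    [Algebra K K'] [IsScalarTower k K K'] : IsProjSpaceOver (baseChangeTo p K') n := by
  obtain ⟨g, hg⟩ := exists_sq h
  exact isProjSpaceOver_of_sq _ (ext_sq hg K')

theorem specMap_cover (k K : Type u) [Field k] [Field K] [Algebra k K] :
    (@Surjective ⊓ @Flat ⊓ @QuasiCompact : MorphismProperty Scheme.{u})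
      (Spec.map (CommRingCat.ofHom (algebraMap k K))) := by
  have h1 : Flat (Spec.map (CommRingCat.ofHom (algebraMap k K))) :=
    Flat.SpecMap_iff.2 (by
      change (algebraMap k K).Flat
      exact RingHom.flat_algebraMap_iff.2 inferInstance)
  have h2 : Surjective (Spec.map (CommRingCat.ofHom (algebraMap k K))) := by
    constructor
    intro x
    obtain ⟨y⟩ : Nonempty (Spec (CommRingCat.of K)) := inferInstance
    exact ⟨y, Subsingleton.elim _ _⟩
  exact ⟨⟨h2, h1⟩, inferInstance⟩

/-- A common extension of two field extensions. -/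
theorem exists_common (k K L : Type u) [Field k] [Field K] [Field L] [Algebra k K] [Algebra k L] :
    ∃ (M : Type u) (_ : Field M) (_ : Algebra k M) (_ : Algebra K M) (_ : Algebra L M),
      IsScalarTower k K M ∧ IsScalarTower k L M := by
  have : Nontrivial (K ⊗[k] L) := inferInstance
  obtain ⟨m, hm⟩ := Ideal.exists_maximal (K ⊗[k] L)
  let _ : Field ((K ⊗[k] L) ⧸ m) := Ideal.Quotient.field m
  let _ : Algebra L (K ⊗[k] L) := Algebra.TensorProduct.rightAlgebra
  refine ⟨(K ⊗[k] L) ⧸ m, inferInstance, inferInstance, inferInstance, inferInstance, inferInstance, ?_⟩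
  infer_instance

theorem smooth (hX : IsBrauerSeveri p) : Smooth p := by
  obtain ⟨K, _, _, n, h⟩ := hX
  obtain ⟨g, hg⟩ := exists_sq h
  have h1 : Smooth (CohB1.ProjSpace.toSpec n K) :=
    SmoothOfRelativeDimension.smooth n _
  exact MorphismProperty.of_isPullback_of_descendsAlong (P := @Smooth)
    (Q := (@Surjective ⊓ @Flat ⊓ @QuasiCompact : MorphismProperty Scheme.{u})) hg.flip
    (specMap_cover k K) h1

theorem isProper (hX : IsBrauerSeveri p) : IsProper p := by
  obtain ⟨K, _, _, n, h⟩ := hX
  obtain ⟨g, hg⟩ := exists_sq h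
  have h1 : IsProper (CohB1.ProjSpace.toSpec n K) := Ega3B.ProjProper.isProper_toSpec n K
  exact (Desc.MorDescent.descendsAlong_isProper).of_isPullback hg.flip (specMap_cover k K) h1

theorem geometricallyIrreducible (hX : IsBrauerSeveri p) : GeometricallyIrreducible p := by
  obtain ⟨K, _, _, n, h⟩ := hX
  obtain ⟨g, hg⟩ := exists_sq h
  refine ⟨geometrically_iff_of_isClosedUnderIsomorphisms.mpr fun L _ y => ?_⟩
  obtain ⟨φ, rfl⟩ := Spec.map_surjective y
  let _ : Algebra k L := φ.hom.toAlgebra
  obtain ⟨M, _, _, _, _, _, _⟩ := exists_common k K L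
  have h1 := ext_sq hg M
  have hL : IsPullback (pullback.fst p (Spec.map φ)) (pullback.snd p (Spec.map φ)) p
    (Spec.map (CommRingCat.ofHom (algebraMap k L))) := IsPullback.of_hasPullback p (Spec.map φ)
  have hcomp : Spec.map (CommRingCat.ofHom (algebraMap L M)) ≫
      Spec.map (CommRingCat.ofHom (algebraMap k L)) = Spec.map (CommRingCat.ofHom (algebraMap k M)) := by
    rw [← Spec.map_comp, ← CommRingCat.ofHom_comp, ← IsScalarTower.algebraMap_eq]
  have hw : (pmap (algebraMap K M) n ≫ g) ≫ p =
      (CohB1.ProjSpace.toSpec n M ≫ Spec.map (CommRingCat.ofHom (algebraMap L M))) ≫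
        Spec.map (CommRingCat.ofHom (algebraMap k L)) := by
    rw [h1.w, Category.assoc, hcomp]
  let t : CohB1.ProjSpace n M ⟶ pullback p (Spec.map φ) := hL.lift _ _ hw
  have h2 : IsPullback t (CohB1.ProjSpace.toSpec n M) (pullback.snd p (Spec.map φ))
      (Spec.map (CommRingCat.ofHom (algebraMap L M))) := by
    refine IsPullback.of_right ?_ (hL.lift_snd _ _ hw) hL
    rw [hcomp, hL.lift_fst]
    exact h1
  have h3 : Surjective t := MorphismProperty.of_isPullback (P := @Surjective) h2.flip
    (specMap_cover L M).1.1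
  have h4 : IrreducibleSpace (CohB1.ProjSpace n M) := inferInstance
  have h5 : IsIrreducible (Set.range t) := by
    rw [← Set.image_univ]
    exact (IrreducibleSpace.isIrreducible_univ _).image t t.continuous.continuousOn
  rw [t.surjective.range_eq] at h5
  exact (irreducibleSpace_def _).mpr h5

theorem geometricallyIntegral (hX : IsBrauerSeveri p) : GeometricallyIntegral p := by
  have := smooth hX
  have := geometricallyIrreducible hX
  exact Flat2B.SmoothGeom.geometricallyIntegral_of_smooth p

end K426.SBGeom
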