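import Groth.Agent.ASBun.K791.EndDiv
import Groth.Agent.ASBun.K792.EndTens
import Groth.Agent.Fano.K715.SumSec
import Groth.Agent.Coherent.K98.RankOpen
import Groth.Agent.Grass.K652.LfRank

/-!
# Modules of type `O(j)^r` on a form of projective space with a rational point

`rank_eq_one`: on a form of `P^n` with a rational point an indecomposable module of type `O(j)^r` has `r = 1`
(its endomorphism algebra is a division algebra of dimension `r^2` which acts on the fibre, of dimension `r`).
-/

set_option autoImplicit false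
set_option backward.isDefEq.respectTransparency false

universe u

open CategoryTheory CategoryTheory.Limits AlgebraicGeometry Opposite TopologicalSpace

namespace K426.SBRank

open Groth.Agent Groth.Agent.ASBun.K791.QMap K792.EndPow K792.EndBC Fdesc.LocGen

attribute [local instance] Groth.Agent.CurvesC.LinMod.linearModules

section spec

variable (k : Type u) [Field k]

theorem bijective_algebraMap_end {L : (Spec (CommRingCat.of k)).Modules} (hL : PicF.IsInvertible L) :
    Function.Bijective (algebraMap k (End L)) := by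
  constructor
  · have : Nontrivial (End L) := ⟨⟨1, 0, fun h => K792.EndLine.not_isZero hL ((IsZero.iff_id_eq_zero L).2 h)⟩⟩
    exact FaithfulSMul.algebraMap_injective k (End L)
  · intro φ
    obtain ⟨r, rfl⟩ := K792.EndLine.exists_eq_smul hL φ
    obtain ⟨c, rfl⟩ := (ConcreteCategory.bijective_of_isIso (Scheme.ΓSpecIso (CommRingCat.of k)).inv).2 r
    refine ⟨c, ?_⟩
    rw [Algebra.algebraMap_eq_smul_one]
    change c • 𝟙 L = _
    rw [Groth.Agent.CurvesC.LinMod.smul_id]
    change Formal.smulModΓ L (Scheme.Hom.appTop (𝟙 (Spec (CommRingCat.of k))) ((Scheme.ΓSpecIso (CommRingCat.of k)).inv c)) = _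
    rw [Scheme.Hom.id_appTop]
    rfl

theorem exists_iso {V : (Spec (CommRingCat.of k)).Modules} {r : ℕ} (hV : FlatMod.IsFinLocFreeOfRank r V) :
    Nonempty (V ≅ FlatMod.freeMod (Spec (CommRingCat.of k)) r) := by
  have hs : Subsingleton ↥(Spec (CommRingCat.of k)) := inferInstanceAs (Subsingleton (PrimeSpectrum k))
  let x : ↥(Spec (CommRingCat.of k)) := (⊥ : PrimeSpectrum k)
  obtain ⟨U, hx, e⟩ := hV x
  have hU : U = ⊤ := by
    ext z
    simp [Subsingleton.elim z x, hx]
  subst hU
  obtain ⟨c, hc⟩ := Sga67.LocBasis.nonempty_restrict_iso_iff.1 e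
  exact Sga67.LocBasis.nonempty_iso_free hc

theorem finrank_end_spec {V : (Spec (CommRingCat.of k)).Modules} {r : ℕ} (hV : FlatMod.IsFinLocFreeOfRank r V) :
    Module.finrank k (End V) = r * r := by
  obtain ⟨φ⟩ := exists_iso k hV
  let D : Dec V (fun _ : Fin r => Coh.structureModule (Spec (CommRingCat.of k))) := Dec.ofCoprodIso φ
  have h := bijective_algebraMap_end k (L := Coh.structureModule (Spec (CommRingCat.of k)))
    Fdesc.LocGen.isInvertible_structureModule
  have e1 := (D.endEquiv k).toLinearEquiv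
  have e2 : k ≃ₗ[k] End (Coh.structureModule (Spec (CommRingCat.of k))) :=
    (AlgEquiv.ofBijective (Algebra.ofId k (End _)) h).toLinearEquiv
  have h1 : Module.finrank k (End (Coh.structureModule (Spec (CommRingCat.of k)))) = 1 := by
    rw [← e2.finrank_eq, Module.finrank_self]
  rw [e1.finrank_eq, Module.finrank_matrix, h1, Fintype.card_fin, mul_one]

variable {k} in
/-- A free module of rank `r ≥ 2` on `Spec k` has a nonzero endomorphism which is not an isomorphism. -/
theorem rank_le_one {V : (Spec (CommRingCat.of k)).Modules} {r : ℕ} (hV : FlatMod.IsFinLocFreeOfRank r V)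
    (h : ∀ g : V ⟶ V, g ≠ 0 → IsIso g) : r ≤ 1 := by
  by_contra hr
  have hr : 2 ≤ r := by omega
  obtain ⟨φ⟩ := exists_iso k hV
  let D : Dec V (fun _ : Fin r => Coh.structureModule (Spec (CommRingCat.of k))) := Dec.ofCoprodIso φ
  let i : Fin r := ⟨0, by omega⟩
  let j : Fin r := ⟨1, by omega⟩
  have hij : i ≠ j := by simp [i, j]
  have hO : (𝟙 (Coh.structureModule (Spec (CommRingCat.of k)))) ≠ 0 := fun h0 =>
    K792.EndLine.not_isZero Fdesc.LocGen.isInvertible_structureModule ((IsZero.iff_id_eq_zero _).2 h0)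
  have h1 : D.π i ≫ D.ι i ≠ 0 := by
    intro h0
    apply hO
    have h2 : D.ι i ≫ (D.π i ≫ D.ι i) ≫ D.π i = 𝟙 _ := by
      rw [Category.assoc, D.ι_π_self, Category.comp_id, D.ι_π_self]
    rw [← h2, h0]
    simp
  have h3 := h _ h1
  have h4 : (D.π i ≫ D.ι i) ≫ D.π j = 0 := by
    rw [Category.assoc, D.ι_π_ne i j hij, comp_zero]
  have h5 : D.π j = 0 := (cancel_epi (D.π i ≫ D.ι i)).1 (h4.trans comp_zero.symm)
  apply hO
  rw [← D.ι_π_self j, h5, comp_zero]

end spec

section geom

variable {k : Type u} [Field k] {X : Scheme.{u}} {f : X ⟶ Spec (CommRingCat.of k)}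
  {K : Type u} [Field K] [Algebra k K] {n : ℕ} (e : BrSev.Splitting f K n)

/-- The projection `P^n_K ⟶ X` is flat. -/
theorem flat_q : Flat (q e) :=
  MorphismProperty.of_isPullback (P := @Flat) (isPullback_q e).flip (Flat.SpecMap_iff.2 (by
      change (algebraMap k K).Flat
      exact RingHom.flat_algebraMap_iff.2 inferInstance))

theorem surjective_q : Surjective (q e) := by
  refine MorphismProperty.of_isPullback (P := @Surjective) (isPullback_q e).flip ?_
  constructor
  intro x
  obtain ⟨y⟩ : Nonempty (Spec (CommRingCat.of K)) := inferInstance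
  exact ⟨y, Subsingleton.elim _ _⟩

/-- A module of type `O(j)^r` has rank `r`. -/
theorem isFinLocFreeOfRank {j : ℤ} {r : ℕ} {W : X.Modules} (hW : Coh.IsQCoh W) (hWt : BrSev.IsTwPow e j r W) :
    FlatMod.IsFinLocFreeOfRank r W := by
  obtain ⟨φ⟩ := (isTwPow_iff e j r W).1 hWt
  have h1 := flat_q e
  have h2 := surjective_q e
  have h3 : QuasiCompact (q e) := MorphismProperty.of_isPullback (P := @QuasiCompact) (isPullback_q e).flip inferInstance
  refine Coherent.K98.RankOpen.isFinLocFreeOfRank_of_pullback (q e) W hW r ?_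
  have hL := Ega3B.ProjTwist.isInvertible_twistProjSpace n K j
  rw [isInvertible_iff] at hL
  choose U a hxU ha using hL
  have h4 := K715.SumSec.isFinLocFreeOfRank (N := fun _ : Fin r => Twist.twistProjSpace n K j) U
    (fun x => ⟨x, hxU x⟩) (fun x _ => a x) (fun x _ => ha x)
  exact K652.LfRank.of_iso φ.symm h4

end geom

section lin

variable {k : Type u} [Field k] {Z Z' : Scheme.{u}} [Z.Over (Spec (CommRingCat.of k))]
  [Z'.Over (Spec (CommRingCat.of k))]

open K792.SecBC K792.HomBC

theorem appLE_sc' (g : Z' ⟶ Z) (hg : g ≫ (Z ↘ Spec (CommRingCat.of k)) = Z' ↘ Spec (CommRingCat.of k))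
    {V : Z.Opens} {V' : Z'.Opens} (e : V' ≤ g ⁻¹ᵁ V) (c : k) : g.appLE V V' e (sc k Z V c) = sc k Z' V' c := by
  rw [sc_eq_appLE, sc_eq_appLE]
  have h := Scheme.Hom.appLE_comp_appLE g (Z ↘ Spec (CommRingCat.of k)) ⊤ V V' le_top e
  have h2 := congr($h ((Scheme.ΓSpecIso (CommRingCat.of k)).inv c))
  refine h2.trans ?_
  simp only [hg]

/-- Inverse image along a morphism over `k` is `k`-linear. -/
theorem map_smul (g : Z' ⟶ Z) (hg : g ≫ (Z ↘ Spec (CommRingCat.of k)) = Z' ↘ Spec (CommRingCat.of k))
    {M N : Z.Modules} (a : k) (φ : M ⟶ N) :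
    (Scheme.Modules.pullback g).map (a • φ) = a • (Scheme.Modules.pullback g).map φ := by
  apply pull_hom_ext
  intro U hU s
  rw [map_ps, smul_app, smul_app, ps_smul, map_ps, Scheme.Hom.app_eq_appLE, appLE_sc' g hg]

/-- Inverse image of endomorphisms. -/
noncomputable def mapEndK (g : Z' ⟶ Z) (hg : g ≫ (Z ↘ Spec (CommRingCat.of k)) = Z' ↘ Spec (CommRingCat.of k))
    (E : Z.Modules) : End E →ₗ[k] End ((Scheme.Modules.pullback g).obj E) where
  toFun φ := (Scheme.Modules.pullback g).map φ
  map_add' _ _ := (Scheme.Modules.pullback g).map_add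
  map_smul' a φ := map_smul g hg a φ

end lin

section geom

variable {k : Type u} [Field k] {X : Scheme.{u}} {f : X ⟶ Spec (CommRingCat.of k)}
  {K : Type u} [Field K] [Algebra k K] {n : ℕ} (e : BrSev.Splitting f K n)

/-- **An indecomposable module of type `O(j)^r` on a form of `P^n` with a rational point is invertible.** -/
theorem rank_eq_one [IsProper f] [IsAlgClosed K] {j : ℤ} {r : ℕ} (hr : 0 < r) {W : X.Modules}
    (hW : FlatMod.IsFinLocFree W)
    (hWi : ¬ IsZero W ∧ ∀ M₁ M₂ : X.Modules, Nonempty (W ≅ M₁ ⊞ M₂) → IsZero M₁ ∨ IsZero M₂)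
    (hWt : BrSev.IsTwPow e j r W) (s : Spec (CommRingCat.of k) ⟶ X) (hs : s ≫ f = 𝟙 _) : r = 1 := by
  let o1 : X.Over (Spec (CommRingCat.of k)) := ⟨f⟩
  have o2 : IsProper (X ↘ Spec (CommRingCat.of k)) := inferInstanceAs (IsProper f)
  have hN : IsLocallyNoetherian X := LocallyOfFiniteType.isLocallyNoetherian f
  have hWc : Coh.IsCoh W := PerfA.CohSerre.isCoh_of_isFinLocFree hW
  have hWr := isFinLocFreeOfRank e hWc.1 hWt
  have hV : FlatMod.IsFinLocFreeOfRank r ((Scheme.Modules.pullback s).obj W) := K652.LfRank.pullback s hWr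
  have hdiv := ASBun.K791.EndDiv.isIso_of_ne_zero e hr hW hWi hWt
  have h1 := K792.EndTens.finrank_end e hWc hWt
  have h2 := finrank_end_spec k hV
  have hle : r ≤ 1 := by
    let F := mapEndK (k := k) (Z' := Spec (CommRingCat.of k)) s (by
      change s ≫ f = 𝟙 _
      exact hs) W
    have hO : (𝟙 ((Scheme.Modules.pullback s).obj W)) ≠ 0 := by
      intro h0
      have h3 : Subsingleton (End ((Scheme.Modules.pullback s).obj W)) := ⟨fun a b =>
        ((IsZero.iff_id_eq_zero _).2 h0).eq_of_src _ _⟩
      have h4 : Module.finrank k (End ((Scheme.Modules.pullback s).obj W)) = 0 :=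
        Module.finrank_zero_of_subsingleton
      rw [h2] at h4
      rcases Nat.mul_eq_zero.1 h4 with h5 | h5 <;> omega
    have hF : Function.Injective F := by
      rw [← LinearMap.ker_eq_bot, LinearMap.ker_eq_bot']
      intro g hg
      by_contra hne
      have := hdiv g hne
      have h3 : IsIso ((Scheme.Modules.pullback s).map g) := inferInstance
      have h4 : (Scheme.Modules.pullback s).map g = 0 := hg
      apply hO
      obtain ⟨u, hu1, _⟩ := h3.out
      rw [← hu1, h4, zero_comp]
    have hf1 : Module.Finite k (End W) := Module.finite_of_finrank_pos (by rw [h1]; positivity)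
    have hf2 : Module.Finite k (End ((Scheme.Modules.pullback s).obj W)) :=
      Module.finite_of_finrank_pos (by rw [h2]; positivity)
    have hsurj : Function.Surjective F :=
      (LinearMap.injective_iff_surjective_of_finrank_eq_finrank (h1.trans h2.symm)).1 hF
    refine rank_le_one hV fun g hg => ?_
    obtain ⟨g', hg'⟩ := hsurj g
    have hne : g' ≠ 0 := by
      rintro rfl
      exact hg (hg'.symm.trans (map_zero F))
    have := hdiv g' hne
    have h3 : (Scheme.Modules.pullback s).map g' = g := hg'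
    rw [← h3]
    infer_instance
  omega

end geom

end K426.SBRank
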