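import Groth.Agent.Variety.K426.SBFin
import Groth.Agent.Variety.K426.SBRank
import Groth.Agent.Brauer.K439.TwVery
import Groth.Agent.PicF.K248.Basic
import Groth.Agent.S14200

/-!
# Forms of projective space with a rational point

`main`: a form of `P^n` over `k`, split by some extension, with a `k`-rational point, is `k`-isomorphic to `P^n`.
-/

set_option autoImplicit false

universe u

open CategoryTheory CategoryTheory.Limits AlgebraicGeometry

namespace K426.SBPoint

open Groth.Agent Groth.Agent.CohqB.ProjBC W4bk4gw11416 K426.SBGeom K426.SBFin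

variable {k : Type u} [Field k] {X : Scheme.{u}} {p : X ⟶ Spec (CommRingCat.of k)}

/-- A splitting, from the property. -/
theorem exists_splitting {K : Type u} [Field K] [Algebra k K] {n : ℕ}
    (hX : IsProjSpaceOver (baseChangeTo p K) n) : Nonempty (BrSev.Splitting p K n) := by
  obtain ⟨e, he⟩ := hX
  exact ⟨⟨e, he⟩⟩

/-- **A form of `P^n` with a rational point is `P^n`.** -/
theorem main {K : Type u} [Field K] [Algebra k K] {n : ℕ}
    (hX : IsProjSpaceOver (baseChangeTo p K) n) (s : Spec (CommRingCat.of k) ⟶ X)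
    (hs : s ≫ p = 𝟙 (Spec (CommRingCat.of k))) : IsProjSpaceOver p n := by
  obtain ⟨F, _, _, hF, hXF⟩ := exists_finite hX
  let Ω := AlgebraicClosure F
  have hΩ : IsAlgClosure k Ω := ⟨inferInstance, Algebra.IsAlgebraic.trans k F Ω⟩
  have hXΩ := isProjSpaceOver_ext hXF Ω
  have hp : IsProper p := SBGeom.isProper ⟨K, inferInstance, inferInstance, n, hX⟩
  obtain ⟨e⟩ := exists_splitting hXΩ
  obtain ⟨W, r, hW, hWi, hr, hWt⟩ := S14200.result k p n Ω e 1
  obtain rfl := SBRank.rank_eq_one e hr hW hWi hWt s hs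
  have hL : PicF.IsInvertible W := by
    have hs := SBRank.surjective_q e
    refine K248.Basic.isInvertible_of_pullback (ASBun.K791.QMap.q e) hW ?_
    obtain ⟨φ⟩ := (ASBun.K791.QMap.isTwPow_iff e 1 1 W).1 hWt
    let φ' := φ ≪≫ coproductUniqueIso (fun _ : Fin 1 => Twist.twistProjSpace n Ω 1)
    exact K248.Basic.isInvertible_of_iso φ'.symm (Ega3B.ProjTwist.isInvertible_twistProjSpace n Ω 1)
  obtain ⟨N, ρ, hN, hρ, hρp, -⟩ := K439.TwVery.exists_closedImmersion e hL (d := 1) one_pos (by exact_mod_cast hWt)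
  have hNn : N = n := by
    rw [Nat.add_comm 1 n, Nat.choose_succ_self_right] at hN
    omega
  subst hNn
  have := isIso_of_closedImmersion hX ρ hρp
  exact ⟨asIso ρ, hρp⟩

end K426.SBPoint
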