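import Groth.Agent.Variety.K426.GenProj

/-!
Generic projections of smooth projective schemes: embedding in `P^{2d+1}`.
-/

set_option autoImplicit false

universe u

open CategoryTheory CategoryTheory.Limits AlgebraicGeometry Topology CohB1
open Groth.Agent Groth.Agent.VarietyB Groth.Agent.VarietyB.ProjHom Groth.Agent.VarietyB.ProjGlue Groth.Agent.VarietyB.ProjStd

namespace K426.GenProj

open Charts

attribute [local instance] DimSch.secAlgebra

variable {k : Type u} [Field k] {X : Scheme.{u}} [X.Over (Spec (CommRingCat.of k))]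

theorem isClosedImmersion_proj {M : ℕ} (ι : X ⟶ ProjSpace (M + 1) k) [IsClosedImmersion ι]
    (hι : ι ≫ ProjSpace.toSpec (M + 1) k = X ↘ Spec (CommRingCat.of k)) (P : Fin (M + 1 + 1) → k)
    (hP : Good ι P) :
    IsClosedImmersion (LinProj.proj ι (lf P) (e := 1) (fun j => lf_mem P j) (iSup_lf ι hι P hP)) := by
  let D := LinProj.formData (𝒜 := polyGrading (M + 1) k) ι (lf P) (e := 1) (lf_mem P)
    (iSup_lf ι hι P hP)
  have hD : ∀ i m, X.basicOpen (D.f i m) = D.U i ⊓ D.U m :=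
    LinProj.formData_basicOpen (𝒜 := polyGrading (M + 1) k) ι (lf P) (lf_mem P) (iSup_lf ι hι P hP)
  have haff : ∀ i, IsAffineOpen (D.U i) := fun i => isAffineOpen_U ι (lf_mem P i)
  have hfin : IsFinite (D.toProjSpace (ι ≫ ProjSpace.toSpec (M + 1) k)) :=
    LinProj.isFinite_proj ι (lf P) (e := 1) (fun j => lf_mem P j) (iSup_lf ι hι P hP) one_pos
  refine CoordData.isClosedImmersion_toProjSpace D hD (ι ≫ ProjSpace.toSpec (M + 1) k) haff fun j => ?_
  have hj := finite_hom D hD (ι ≫ ProjSpace.toSpec (M + 1) k) haff hfin j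
  let A := MvPolynomial (Fin (M + 1)) k
  let _ : Algebra A Γ(X, U ι (lf P j)) := (D.hom (ι ≫ ProjSpace.toSpec (M + 1) k) j).toAlgebra
  have _ : Module.Finite A Γ(X, U ι (lf P j)) := hj
  have _ : IsScalarTower k A Γ(X, U ι (lf P j)) := IsScalarTower.of_algebraMap_eq fun c => by
    have h1 : D.hom (ι ≫ ProjSpace.toSpec (M + 1) k) j (MvPolynomial.C c) =
        CoordData.baseHom (ι ≫ ProjSpace.toSpec (M + 1) k) (D.U j) c := by
      rw [CoordData.hom, MvPolynomial.eval₂Hom_C]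
    have h2 : CoordData.baseHom (ι ≫ ProjSpace.toSpec (M + 1) k) (D.U j) c =
        CoordData.baseHom (X ↘ Spec (CommRingCat.of k)) (D.U j) c := by rw [hι]
    exact (h1.trans h2).symm
  exact surjective_aux ι hι P hP j A MvPolynomial.X fun m => by
    have h1 : D.hom (ι ≫ ProjSpace.toSpec (M + 1) k) j (MvPolynomial.X m) = D.f j m :=
      CoordData.hom_X _ _ _ _
    refine h1.trans ?_
    exact (E_linear ι (lf_mem P j) (lf_mem P m)).symm

/-- One step of the generic projection. -/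
theorem exists_step [Infinite k] [Smooth (X ↘ Spec (CommRingCat.of k))] {d M : ℕ}
    (hd : topologicalKrullDim X ≤ d) (hM : 2 * d + 1 ≤ M) (ι : X ⟶ ProjSpace (M + 1) k)
    [IsClosedImmersion ι] (hι : ι ≫ ProjSpace.toSpec (M + 1) k = X ↘ Spec (CommRingCat.of k)) :
    ∃ ι' : X ⟶ ProjSpace M k, IsClosedImmersion ι' ∧
      ι' ≫ ProjSpace.toSpec M k = X ↘ Spec (CommRingCat.of k) := by
  obtain ⟨P, hP⟩ := exists_good ι hd (by omega : 2 * d + 1 < M + 1)
  exact ⟨_, isClosedImmersion_proj ι hι P hP, by rw [LinProj.proj_toSpec, hι]⟩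

theorem hom_rename {R B : Type*} [CommRing R] [CommRing B] {M N : ℕ}
    (f : MvPolynomial (Fin (M + 1)) R →+* B)
    (g : MvPolynomial (Fin (N + 1)) R →+* B) (σ : Fin (N + 1) → Fin (M + 1))
    (hC : ∀ r, f (MvPolynomial.C r) = g (MvPolynomial.C r))
    (hX : ∀ m, f (MvPolynomial.X (σ m)) = g (MvPolynomial.X m)) (a : MvPolynomial (Fin (N + 1)) R) :
    f (MvPolynomial.rename σ a) = g a := by
  induction a using MvPolynomial.induction_on with
  | C r => rw [MvPolynomial.rename_C, hC]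
  | add p q hp hq => rw [map_add, map_add, map_add, hp, hq]
  | mul_X p i hp => rw [map_mul, map_mul, map_mul, MvPolynomial.rename_X, hp, hX]

/-- Linear embeddings. -/
theorem exists_linear {M N : ℕ} (h : N ≤ M) (ι : X ⟶ ProjSpace N k) [IsClosedImmersion ι]
    (hι : ι ≫ ProjSpace.toSpec N k = X ↘ Spec (CommRingCat.of k)) :
    ∃ ι' : X ⟶ ProjSpace M k, IsClosedImmersion ι' ∧
      ι' ≫ ProjSpace.toSpec M k = X ↘ Spec (CommRingCat.of k) := by
  let l : Fin (M + 1) → MvPolynomial (Fin (N + 1)) k := fun j =>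
    if hj : j.1 < N + 1 then MvPolynomial.X ⟨j.1, hj⟩ else 0
  have hl : ∀ j, l j ∈ MvPolynomial.homogeneousSubmodule (Fin (N + 1)) k 1 := by
    intro j
    by_cases hj : j.1 < N + 1
    · simp only [l, hj, dite_true]
      exact hX _
    · simp only [l, hj, dite_false]
      exact Submodule.zero_mem _
  have hlX : ∀ i : Fin (N + 1), l ⟨i.1, by omega⟩ = MvPolynomial.X i := by
    intro i
    simp only [l, i.2, dite_true]
  have hcov : ⨆ j, U ι (l j) = ⊤ := by
    rw [eq_top_iff]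
    intro x _
    obtain ⟨i, hi⟩ := PerfB.ProjSpaceCover.exists_mem_basicOpen_X N k (ι x)
    refine TopologicalSpace.Opens.mem_iSup.mpr ⟨⟨i.1, by omega⟩, ?_⟩
    rw [hlX]
    exact hi
  let D := LinProj.formData (𝒜 := polyGrading N k) ι l (e := 1) hl hcov
  have hD : ∀ i m, X.basicOpen (D.f i m) = D.U i ⊓ D.U m :=
    LinProj.formData_basicOpen (𝒜 := polyGrading N k) ι l hl hcov
  have haff : ∀ i, IsAffineOpen (D.U i) := fun i => isAffineOpen_U ι (hl i)
  refine ⟨LinProj.proj ι l (e := 1) (fun j => hl j) hcov, ?_, by rw [LinProj.proj_toSpec, hι]⟩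
  refine CoordData.isClosedImmersion_toProjSpace D hD (ι ≫ ProjSpace.toSpec N k) haff fun j b => ?_
  obtain ⟨a, ha⟩ := E_surjective ι (hl j) b
  refine ⟨MvPolynomial.rename (fun i : Fin (N + 1) => (⟨i.1, by omega⟩ : Fin (M + 1))) a, ?_⟩
  rw [← ha]
  refine hom_rename (B := Γ(X, U ι (l j))) (D.hom (ι ≫ ProjSpace.toSpec N k) j) (E ι (hl j)) _
    (fun r => ?_) (fun m => ?_) a
  · have h1 : D.hom (ι ≫ ProjSpace.toSpec N k) j (MvPolynomial.C r) =
        CoordData.baseHom (ι ≫ ProjSpace.toSpec N k) (D.U j) r := by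
      rw [CoordData.hom, MvPolynomial.eval₂Hom_C]
    have h2 : CoordData.baseHom (ι ≫ ProjSpace.toSpec N k) (D.U j) r =
        CoordData.baseHom (X ↘ Spec (CommRingCat.of k)) (D.U j) r := by rw [hι]
    exact (h1.trans h2).trans (E_C ι hι (hl j) r).symm
  · have h1 : D.hom (ι ≫ ProjSpace.toSpec N k) j (MvPolynomial.X ⟨m.1, by omega⟩) =
      D.f j ⟨m.1, by omega⟩ := CoordData.hom_X _ _ _ _
    have h2 : D.f j ⟨m.1, by omega⟩ = E ι (hl j) (l ⟨m.1, by omega⟩) :=
      (E_linear ι (hl j) (hl _)).symm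
    exact (h1.trans h2).trans (congrArg (E ι (hl j)) (hlX m))

theorem exists_of_le [Infinite k] [Smooth (X ↘ Spec (CommRingCat.of k))] {d : ℕ}
    (hd : topologicalKrullDim X ≤ d) : ∀ {N : ℕ} (ι : X ⟶ ProjSpace N k) (_ : IsClosedImmersion ι)
    (_ : ι ≫ ProjSpace.toSpec N k = X ↘ Spec (CommRingCat.of k)),
    ∃ ι' : X ⟶ ProjSpace (2 * d + 1) k, IsClosedImmersion ι' ∧
      ι' ≫ ProjSpace.toSpec (2 * d + 1) k = X ↘ Spec (CommRingCat.of k)
  | 0, ι, _, h => exists_linear (by omega) ι h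
  | M + 1, ι, _, h => by
    by_cases hM : M + 1 ≤ 2 * d + 1
    · exact exists_linear hM ι h
    · obtain ⟨ι', h1, h2⟩ := exists_step hd (by omega : 2 * d + 1 ≤ M) ι h
      exact exists_of_le hd ι' h1 h2

end K426.GenProj
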