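import Groth.Agent.Flat2D.FibDimAlg
import Mathlib.RingTheory.KrullDimension.Polynomial
import Mathlib.RingTheory.Ideal.MinimalPrime.Noetherian
import Groth.Agent.CycA.ProdDim

/-!
More than `dim C` elements of a finitely generated algebra are algebraically dependent.
-/

set_option autoImplicit false

universe u

open MvPolynomial TensorProduct

namespace K426.AlgDep

theorem exists_aeval_eq_zero (k C : Type u) [Field k] [CommRing C] [Algebra k C]
    [Algebra.FiniteType k C] {m : ℕ} (y : Fin m → C) (h : ringKrullDim C < m) :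
    ∃ F : MvPolynomial (Fin m) k, F ≠ 0 ∧ aeval y F = 0 := by
  classical
  have hN : IsNoetherianRing C := Algebra.FiniteType.isNoetherianRing k C
  have hfin : (minimalPrimes C).Finite := minimalPrimes.finite_of_isNoetherianRing C
  have hex : ∀ Q : Ideal C, Q ∈ minimalPrimes C →
      ∃ g : MvPolynomial (Fin m) k, g ≠ 0 ∧ aeval y g ∈ Q := by
    intro Q hQ
    have hp : Q.IsPrime := Ideal.IsMinimalPrime.isPrime hQ
    by_contra hcon
    push Not at hcon
    have h1 := Groth.Agent.Flat2D.FibDimAlg.le_ringKrullDim_of_algebraicIndependent (k := k) ⟨Q, hp⟩ y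
      (fun g hg => by
        by_contra hg0
        exact hcon g hg0 hg)
    exact absurd h (not_lt.mpr h1)
  choose! g hg0 hg using hex
  let G : MvPolynomial (Fin m) k := ∏ Q ∈ hfin.toFinset, g Q
  have hG0 : G ≠ 0 := Finset.prod_ne_zero_iff.mpr fun Q hQ => hg0 Q (hfin.mem_toFinset.mp hQ)
  have hG : aeval y G ∈ nilradical C := by
    rw [nilradical, ← Ideal.sInf_minimalPrimes, Submodule.mem_sInf]
    intro Q hQ
    have h1 := hg Q hQ
    have h2 : g Q ∣ G := Finset.dvd_prod_of_mem g (hfin.mem_toFinset.mpr hQ)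
    obtain ⟨c, hc⟩ := h2
    rw [hc, map_mul]
    exact Ideal.mul_mem_right _ _ h1
  obtain ⟨r, hr⟩ := hG
  refine ⟨G ^ r, pow_ne_zero r hG0, ?_⟩
  rw [map_pow, hr]

theorem finiteType_tensor (k C C' : Type u) [Field k] [CommRing C] [Algebra k C]
    [Algebra.FiniteType k C] [CommRing C'] [Algebra k C'] [Algebra.FiniteType k C'] :
    Algebra.FiniteType k (C ⊗[k] C') :=
  Algebra.FiniteType.trans (S := C) inferInstance (Algebra.FiniteType.baseChange C)

/-- dimension of `(C ⊗ C')[s, t]`. -/
theorem ringKrullDim_tensor_mvPolynomial_le (k C C' : Type u) [Field k] [CommRing C] [Algebra k C]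
    [Algebra.FiniteType k C] [CommRing C'] [Algebra k C'] [Algebra.FiniteType k C'] (d d' r : ℕ)
    (h : ringKrullDim C ≤ d) (h' : ringKrullDim C' ≤ d') :
    ringKrullDim (MvPolynomial (Fin r) (C ⊗[k] C')) ≤ ((d + d' + r : ℕ) : WithBot ℕ∞) := by
  have hft := finiteType_tensor k C C'
  have hN : IsNoetherianRing (C ⊗[k] C') := Algebra.FiniteType.isNoetherianRing k (C ⊗[k] C')
  rw [MvPolynomial.ringKrullDim_of_isNoetherianRing]
  by_cases hC : Nontrivial C
  · by_cases hC' : Nontrivial C'
    · obtain ⟨n, m, hn, hm, hnm⟩ :=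
        Groth.Agent.CycA.ProdDim.exists_ringKrullDim_tensorProduct k C C'
      rw [hnm]
      rw [hn] at h
      rw [hm] at h'
      have h1 : n ≤ d := by exact_mod_cast h
      have h2 : m ≤ d' := by exact_mod_cast h'
      exact_mod_cast (by simp; omega : n + m + Nat.card (Fin r) ≤ d + d' + r)
    · rw [not_nontrivial_iff_subsingleton] at hC'
      have : Subsingleton (C ⊗[k] C') := by
        refine ⟨fun a b => ?_⟩
        have h1 : (1 : C ⊗[k] C') = 0 := by
          rw [Algebra.TensorProduct.one_def, Subsingleton.elim (1 : C') 0, TensorProduct.tmul_zero]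
        rw [← one_mul a, ← one_mul b, h1, zero_mul, zero_mul]
      rw [ringKrullDim_eq_bot_of_subsingleton]
      simp
  · rw [not_nontrivial_iff_subsingleton] at hC
    have : Subsingleton (C ⊗[k] C') := by
      refine ⟨fun a b => ?_⟩
      have h1 : (1 : C ⊗[k] C') = 0 := by
        rw [Algebra.TensorProduct.one_def, Subsingleton.elim (1 : C) 0, TensorProduct.zero_tmul]
      rw [← one_mul a, ← one_mul b, h1, zero_mul, zero_mul]
    rw [ringKrullDim_eq_bot_of_subsingleton]
    simp

/-- dimension of `C[t₁, …, t_r]`. -/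
theorem ringKrullDim_mvPolynomial_le (k C : Type u) [Field k] [CommRing C] [Algebra k C]
    [Algebra.FiniteType k C] (d r : ℕ) (h : ringKrullDim C ≤ d) :
    ringKrullDim (MvPolynomial (Fin r) C) ≤ ((d + r : ℕ) : WithBot ℕ∞) := by
  have hN : IsNoetherianRing C := Algebra.FiniteType.isNoetherianRing k C
  rw [MvPolynomial.ringKrullDim_of_isNoetherianRing]
  simp only [Nat.card_eq_fintype_card, Fintype.card_fin, Nat.cast_add]
  gcongr

end K426.AlgDep
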