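import Groth.Agent.Variety.K426.Deh
import Groth.Agent.Variety.K426.LinProj
import Mathlib.AlgebraicGeometry.Morphisms.ClosedImmersion

/-!
Sections over the opens `D₊(l)` for a scheme over projective space.
-/

set_option autoImplicit false

universe u

open CategoryTheory CategoryTheory.Limits AlgebraicGeometry Topology CohB1
open Groth.Agent Groth.Agent.VarietyB Groth.Agent.VarietyB.ProjGlue Groth.Agent.VarietyB.ProjStd
open Groth.Agent.Picfga.ProjGlue

namespace K426.Charts

attribute [local instance] DimSch.secAlgebra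

variable {k : Type u} [Field k] {N : ℕ} {X : Scheme.{u}} [X.Over (Spec (CommRingCat.of k))]
  (ι : X ⟶ ProjSpace N k) (hι : ι ≫ ProjSpace.toSpec N k = X ↘ Spec (CommRingCat.of k))

/-- The open `l ≠ 0` of projective space. -/
noncomputable def D (l : MvPolynomial (Fin (N + 1)) k) : (ProjSpace N k).Opens :=
  Proj.basicOpen (polyGrading N k) l

/-- The open `l ≠ 0`. -/
noncomputable abbrev U (l : MvPolynomial (Fin (N + 1)) k) : X.Opens :=
  ι ⁻¹ᵁ D l

variable {l : MvPolynomial (Fin (N + 1)) k}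
  (hl : l ∈ MvPolynomial.homogeneousSubmodule (Fin (N + 1)) k 1)

/-- The section `a / l`. -/
noncomputable def fr {a : MvPolynomial (Fin (N + 1)) k}
    (ha : a ∈ MvPolynomial.homogeneousSubmodule (Fin (N + 1)) k 1) : Γ(ProjSpace N k, D l) :=
  frac (𝒜 := polyGrading N k) a l ⟨1, ha, hl⟩ (Proj.basicOpen (polyGrading N k) l) le_rfl

theorem basicOpen_fr {a : MvPolynomial (Fin (N + 1)) k}
    (ha : a ∈ MvPolynomial.homogeneousSubmodule (Fin (N + 1)) k 1) :
    (ProjSpace N k).basicOpen (fr hl ha) = D l ⊓ D a :=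
  basicOpen_frac (𝒜 := polyGrading N k) a l ⟨1, ha, hl⟩ (Proj.basicOpen (polyGrading N k) l) le_rfl

theorem fr_mul {l' a : MvPolynomial (Fin (N + 1)) k}
    (hl' : l' ∈ MvPolynomial.homogeneousSubmodule (Fin (N + 1)) k 1)
    (ha : a ∈ MvPolynomial.homogeneousSubmodule (Fin (N + 1)) k 1) :
    (ProjSpace N k).presheaf.map (homOfLE (inf_le_left : D l ⊓ D l' ≤ D l)).op (fr hl ha) =
      (ProjSpace N k).presheaf.map (homOfLE (inf_le_left : D l ⊓ D l' ≤ D l)).op (fr hl hl') *
      (ProjSpace N k).presheaf.map (homOfLE (inf_le_right : D l ⊓ D l' ≤ D l')).op (fr hl' ha) := by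
  have hh : frac (𝒜 := polyGrading N k) a l ⟨1, ha, hl⟩
      (Proj.basicOpen (polyGrading N k) l ⊓ Proj.basicOpen (polyGrading N k) l') inf_le_left =
      frac (𝒜 := polyGrading N k) l' l ⟨1, hl', hl⟩ _ inf_le_left *
        frac (𝒜 := polyGrading N k) a l' ⟨1, ha, hl'⟩ _ inf_le_right := by
    rw [frac_mul _ _ _ _ _ _ ⟨1 + 1, SetLike.mul_mem_graded hl' ha,
      SetLike.mul_mem_graded hl hl'⟩ _ _ _ (by rw [Proj.basicOpen_mul])]
    refine frac_eq _ _ _ _ _ _ _ _ _ (by ring)
  exact hh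

/-- evaluation of polynomials on `l ≠ 0`, normalized by `l = 1`. -/
noncomputable def E : MvPolynomial (Fin (N + 1)) k →+* Γ(X, U ι l) :=
  (ι.app (D l)).hom.comp
    (Deh.evP (Fin (N + 1)) k hl)

omit [X.Over (Spec (CommRingCat.of k))] in
theorem app_baseHom {Y : Scheme.{u}} (g : X ⟶ Y) (p : Y ⟶ Spec (CommRingCat.of k)) (V : Y.Opens) (c : k) :
    (g.app V).hom (CoordData.baseHom p V c) = CoordData.baseHom (g ≫ p) (g ⁻¹ᵁ V) c := by
  simp only [CoordData.baseHom, RingHom.comp_apply, Scheme.Hom.comp_appTop, CommRingCat.hom_comp]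
  have := g.naturality (homOfLE (le_top : V ≤ ⊤)).op
  exact congr(($this).hom _)

include hι in
theorem E_C (r : k) : E ι hl (MvPolynomial.C r) = algebraMap k Γ(X, U ι l) r := by
  change (ι.app (D l)).hom
    (Deh.evP (Fin (N + 1)) k hl (MvPolynomial.C r)) = _
  rw [Deh.evP_C]
  have h := app_baseHom ι (ProjSpace.toSpec N k)
    (D l) r
  refine h.trans ?_
  rw [hι]
  rfl

omit [X.Over (Spec (CommRingCat.of k))] in
theorem E_linear {a : MvPolynomial (Fin (N + 1)) k}
    (ha : a ∈ MvPolynomial.homogeneousSubmodule (Fin (N + 1)) k 1) :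
    E ι hl a = ι.app (D l) (fr hl ha) := by
  change (ι.app (D l)).hom (Deh.evP (Fin (N + 1)) k hl a) = _
  rw [Deh.evP_linear (Fin (N + 1)) k hl a ha]
  rfl

omit [X.Over (Spec (CommRingCat.of k))] in
theorem E_self : E ι hl l = 1 := by
  have h : fr hl hl = 1 := frac_self _ _ _ _
  rw [E_linear ι hl hl, h]
  exact map_one _

omit [X.Over (Spec (CommRingCat.of k))] in
theorem isAffineOpen_U [IsAffineHom ι] (hl : l ∈ MvPolynomial.homogeneousSubmodule (Fin (N + 1)) k 1) :
    IsAffineOpen (U ι l) := by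
  have hW : IsAffineOpen (X := ProjSpace N k) (Proj.basicOpen (polyGrading N k) l) :=
    Proj.isAffineOpen_basicOpen (polyGrading N k) l hl one_pos
  exact hW.preimage ι

omit [X.Over (Spec (CommRingCat.of k))] in
theorem E_surjective [IsClosedImmersion ι] : Function.Surjective (E ι hl) := by
  have hW : IsAffineOpen (X := ProjSpace N k) (Proj.basicOpen (polyGrading N k) l) :=
    Proj.isAffineOpen_basicOpen (polyGrading N k) l hl one_pos
  have h1 : Function.Surjective
      (ι.app (D l)).hom :=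
    ι.app_surjective (D l) hW
  exact h1.comp (Deh.evP_surjective (Fin (N + 1)) k hl)

omit [X.Over (Spec (CommRingCat.of k))] in
theorem basicOpen_E {a : MvPolynomial (Fin (N + 1)) k}
    (ha : a ∈ MvPolynomial.homogeneousSubmodule (Fin (N + 1)) k 1) :
    X.basicOpen (E ι hl a) = U ι l ⊓ U ι a := by
  rw [E_linear ι hl ha, ← Scheme.preimage_basicOpen, basicOpen_fr]
  rfl

omit [X.Over (Spec (CommRingCat.of k))] in
theorem E_mul {l' a : MvPolynomial (Fin (N + 1)) k}
    (hl' : l' ∈ MvPolynomial.homogeneousSubmodule (Fin (N + 1)) k 1)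
    (ha : a ∈ MvPolynomial.homogeneousSubmodule (Fin (N + 1)) k 1) :
    X.presheaf.map (homOfLE (inf_le_left : U ι l ⊓ U ι l' ≤ U ι l)).op (E ι hl a) =
      X.presheaf.map (homOfLE (inf_le_left : U ι l ⊓ U ι l' ≤ U ι l)).op (E ι hl l') *
      X.presheaf.map (homOfLE (inf_le_right : U ι l ⊓ U ι l' ≤ U ι l')).op (E ι hl' a) := by
  rw [E_linear ι hl ha, E_linear ι hl hl', E_linear ι hl' ha]
  have h0 := congrArg (ι.app (D l ⊓ D l')) (fr_mul hl hl' ha)
  rw [map_mul] at h0
  have h1 := map_app ι (inf_le_left : D l ⊓ D l' ≤ D l) (ι.preimage_mono inf_le_left) (fr hl ha)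
  have h2 := map_app ι (inf_le_left : D l ⊓ D l' ≤ D l) (ι.preimage_mono inf_le_left) (fr hl hl')
  have h3 := map_app ι (inf_le_right : D l ⊓ D l' ≤ D l') (ι.preimage_mono inf_le_right) (fr hl' ha)
  exact h1.trans (h0.trans (congrArg₂ (· * ·) h2.symm h3.symm))

/-- Change of charts for points with values in a ring. -/
theorem exists_chart [IsAffineHom ι] {l' : MvPolynomial (Fin (N + 1)) k}
    (hl' : l' ∈ MvPolynomial.homogeneousSubmodule (Fin (N + 1)) k 1) {R : Type*} [CommRing R]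
    [Algebra k R] (ψ : Γ(X, U ι l) →ₐ[k] R) (h : IsUnit (ψ (E ι hl l'))) :
    ∃ φ : Γ(X, U ι l') →ₐ[k] R, ∀ a ∈ MvPolynomial.homogeneousSubmodule (Fin (N + 1)) k 1,
      ψ (E ι hl a) = ψ (E ι hl l') * φ (E ι hl' a) := by
  have haff := isAffineOpen_U ι hl
  let V := U ι l ⊓ U ι l'
  let i1 : V ⟶ U ι l := homOfLE inf_le_left
  let i2 : V ⟶ U ι l' := homOfLE inf_le_right
  let _ : Algebra Γ(X, U ι l) Γ(X, V) := (X.presheaf.map i1.op).hom.toAlgebra
  have hloc : IsLocalization.Away (E ι hl l') Γ(X, V) :=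
    haff.isLocalization_of_eq_basicOpen (E ι hl l') i1 (basicOpen_E ι hl hl').symm
  let ψ' : Γ(X, V) →+* R := IsLocalization.Away.lift (S := Γ(X, V)) (E ι hl l')
    (g := (ψ : Γ(X, U ι l) →+* R)) h
  have hψ' : ∀ a, ψ' ((X.presheaf.map i1.op).hom a) = ψ a := fun a =>
    IsLocalization.Away.lift_eq (S := Γ(X, V)) (E ι hl l') (g := (ψ : Γ(X, U ι l) →+* R)) h a
  let φ : Γ(X, U ι l') →ₐ[k] R :=
    { ψ'.comp (X.presheaf.map i2.op).hom with
      commutes' := fun r => by
        change ψ' ((X.presheaf.map i2.op).hom (DimSch.toSections k X (U ι l') r)) = _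
        have h1 : (X.presheaf.map i2.op).hom (DimSch.toSections k X (U ι l') r) =
            (X.presheaf.map i1.op).hom (DimSch.toSections k X (U ι l) r) := by
          have e1 := RingHom.congr_fun (CoordData.baseHom_map (X ↘ Spec (CommRingCat.of k))
            (inf_le_left : V ≤ U ι l)) r
          have e2 := RingHom.congr_fun (CoordData.baseHom_map (X ↘ Spec (CommRingCat.of k))
            (inf_le_right : V ≤ U ι l')) r
          exact e2.trans e1.symm
        rw [h1, hψ']
        exact ψ.commutes r }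
  refine ⟨φ, fun a ha => ?_⟩
  have h2 := congrArg ψ' (E_mul ι hl hl' ha)
  rw [map_mul] at h2
  have h3 := hψ' (E ι hl a)
  have h4 := hψ' (E ι hl l')
  exact h3.symm.trans (h2.trans (congrArg (· * φ (E ι hl' a)) h4))

end K426.Charts
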