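import Mathlib.RingTheory.FiniteType
import Mathlib.RingTheory.Localization.FractionRing
import Mathlib.RingTheory.Localization.Away.Basic
import Mathlib.Tactic.Ring
import Mathlib.Tactic.FieldSimp

/-!
Two finitely generated algebras with the same field of fractions have a common localization.
-/

set_option autoImplicit false

namespace K426.CommonLoc

variable {k F : Type*} [Field k] [Field F] [Algebra k F]

/-- The subalgebra `A[1/a]` of `F`. -/
def L (A : Type*) [CommRing A] [Algebra k A] [Algebra A F] [IsScalarTower k A F] (a : A) :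
    Subalgebra k F where
  carrier := {c | ∃ (n : ℕ) (x : A), c * algebraMap A F a ^ n = algebraMap A F x}
  mul_mem' := by
    rintro c d ⟨n, x, hx⟩ ⟨m, y, hy⟩
    refine ⟨n + m, x * y, ?_⟩
    rw [map_mul, ← hx, ← hy]
    ring
  add_mem' := by
    rintro c d ⟨n, x, hx⟩ ⟨m, y, hy⟩
    refine ⟨n + m, x * a ^ m + y * a ^ n, ?_⟩
    rw [map_add, map_mul, map_mul, map_pow, map_pow, ← hx, ← hy]
    ring
  algebraMap_mem' r := ⟨0, algebraMap k A r, by
    rw [pow_zero, mul_one]; exact IsScalarTower.algebraMap_apply k A F r⟩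

section

variable {A : Type*} [CommRing A] [Algebra k A] [Algebra A F] [IsScalarTower k A F]

theorem mem_L {a : A} {c : F} :
    c ∈ L (k := k) A a ↔ ∃ (n : ℕ) (x : A), c * algebraMap A F a ^ n = algebraMap A F x := Iff.rfl

theorem algebraMap_mem_L (a x : A) : algebraMap A F x ∈ L (k := k) A a :=
  ⟨0, x, by rw [pow_zero, mul_one]⟩

theorem L_mono_left (a b : A) : L (k := k) A a ≤ L (k := k) (F := F) A (a * b) := by
  rintro c ⟨n, x, hx⟩
  refine ⟨n, x * b ^ n, ?_⟩
  rw [map_mul, map_mul, map_pow, ← hx]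
  ring

theorem inv_mem_L_left {a b : A} (ha : algebraMap A F a ≠ 0) :
    (algebraMap A F a)⁻¹ ∈ L (k := k) A (a * b) := by
  refine ⟨1, b, ?_⟩
  rw [map_mul, pow_one]
  field_simp

theorem inv_mem_L_right {a b : A} (hb : algebraMap A F b ≠ 0) :
    (algebraMap A F b)⁻¹ ∈ L (k := k) A (a * b) := by
  refine ⟨1, a, ?_⟩
  rw [map_mul, pow_one]
  field_simp

/-- A finite type algebra inside the fraction field of `A` lies in some `A[1/a]`. -/
theorem exists_range_le [IsDomain A] [IsFractionRing A F] {B : Type*} [CommRing B] [Algebra k B] [Algebra B F]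
    [IsScalarTower k B F] [Algebra.FiniteType k B] :
    ∃ a : A, a ≠ 0 ∧ ∀ x : B, algebraMap B F x ∈ L (k := k) A a := by
  classical
  obtain ⟨s, hs⟩ := (‹Algebra.FiniteType k B› : Algebra.FiniteType k B).out
  have hden : ∀ z : F, ∃ a : A, a ≠ 0 ∧ ∃ x : A, z * algebraMap A F a = algebraMap A F x := by
    intro z
    obtain ⟨⟨x, a⟩, h⟩ := IsLocalization.surj (nonZeroDivisors A) z
    exact ⟨a, nonZeroDivisors.ne_zero a.2, x, h⟩
  choose den hden0 num hnum using hden
  let a : A := ∏ b ∈ s, den (algebraMap B F b)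
  refine ⟨a, Finset.prod_ne_zero_iff.mpr fun b _ => hden0 _, fun x => ?_⟩
  have hx : x ∈ Algebra.adjoin k (s : Set B) := by rw [hs]; trivial
  induction hx using Algebra.adjoin_induction with
  | mem x hx =>
    refine ⟨1, num (algebraMap B F x) * ∏ b ∈ s.erase x, den (algebraMap B F b), ?_⟩
    rw [pow_one, map_mul, ← hnum, mul_assoc, ← map_mul, Finset.mul_prod_erase s (fun b => den (algebraMap B F b)) hx]
  | algebraMap r =>
    rw [← IsScalarTower.algebraMap_apply k B F]
    exact Subalgebra.algebraMap_mem _ r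
  | add x y _ _ hx hy => rw [map_add]; exact Subalgebra.add_mem _ hx hy
  | mul x y _ _ hx hy => rw [map_mul]; exact Subalgebra.mul_mem _ hx hy

end

/-- Common localization. -/
theorem exists_common (A B : Type*) [CommRing A] [CommRing B] [IsDomain A] [IsDomain B]
    [Algebra k A] [Algebra k B] [Algebra A F] [Algebra B F] [IsScalarTower k A F]
    [IsScalarTower k B F] [IsFractionRing A F] [IsFractionRing B F] [Algebra.FiniteType k A]
    [Algebra.FiniteType k B] :
    ∃ (a : A) (b : B), a ≠ 0 ∧ b ≠ 0 ∧ L (k := k) (F := F) A a = L (k := k) B b := by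
  obtain ⟨a0, ha0, hB⟩ := exists_range_le (k := k) (F := F) (A := A) (B := B)
  obtain ⟨b0, hb0, hA⟩ := exists_range_le (k := k) (F := F) (A := B) (B := A)
  have hAinj : Function.Injective (algebraMap A F) := IsFractionRing.injective A F
  have hBinj : Function.Injective (algebraMap B F) := IsFractionRing.injective B F
  have hne : ∀ a : A, a ≠ 0 → algebraMap A F a ≠ 0 := fun a ha h => ha (hAinj (by rw [h, map_zero]))
  have hne' : ∀ b : B, b ≠ 0 → algebraMap B F b ≠ 0 := fun b hb h => hb (hBinj (by rw [h, map_zero]))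
  obtain ⟨N, a1, ha1⟩ := hB b0
  have ha10 : a1 ≠ 0 := by
    rintro rfl
    rw [map_zero] at ha1
    exact (mul_ne_zero (hne' _ hb0) (pow_ne_zero _ (hne _ ha0))) ha1
  obtain ⟨M, b1, hb1⟩ := hA (a0 * a1)
  have hb10 : b1 ≠ 0 := by
    rintro rfl
    rw [map_zero] at hb1
    exact (mul_ne_zero (hne _ (mul_ne_zero ha0 ha10)) (pow_ne_zero _ (hne' _ hb0))) hb1
  have h1 : ∀ x : B, algebraMap B F x ∈ L (k := k) (F := F) A (a0 * a1) := fun x => L_mono_left _ _ (hB x)
  have h2 : (algebraMap B F b0)⁻¹ ∈ L (k := k) (F := F) A (a0 * a1) := by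
    have e : (algebraMap B F b0)⁻¹ = algebraMap A F (a0 ^ N) * (algebraMap A F a1)⁻¹ := by
      rw [← ha1, map_pow]
      have := hne' _ hb0
      have := hne _ ha0
      field_simp
    rw [e]
    exact Subalgebra.mul_mem _ (algebraMap_mem_L _ _) (inv_mem_L_right (hne _ ha10))
  have h3 : (algebraMap A F (a0 * a1))⁻¹ ∈ L (k := k) (F := F) A (a0 * a1) := by
    rw [map_mul, mul_inv]
    exact Subalgebra.mul_mem _ (inv_mem_L_left (hne _ ha0)) (inv_mem_L_right (hne _ ha10))
  refine ⟨a0 * a1, b0 * b1, mul_ne_zero ha0 ha10, mul_ne_zero hb0 hb10, le_antisymm ?_ ?_⟩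
  · rintro c ⟨n, x, hx⟩
    have e : c = algebraMap A F x * ((algebraMap B F b0) ^ M * (algebraMap B F b1)⁻¹) ^ n := by
      have h4 := hne _ (mul_ne_zero ha0 ha10)
      have h5 : (algebraMap B F b0) ^ M ≠ 0 := pow_ne_zero _ (hne' _ hb0)
      have h6 : algebraMap A F (a0 * a1) * ((algebraMap B F b0) ^ M * (algebraMap B F b1)⁻¹) = 1 := by
        rw [← hb1]
        field_simp
      rw [← hx, mul_assoc, ← mul_pow, h6, one_pow, mul_one]
    rw [e]
    refine Subalgebra.mul_mem _ (L_mono_left _ _ (hA x)) (Subalgebra.pow_mem _ (Subalgebra.mul_mem _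
      (Subalgebra.pow_mem _ (algebraMap_mem_L _ _) _) (inv_mem_L_right (hne' _ hb10))) _)
  · rintro c ⟨n, y, hy⟩
    have e : c = algebraMap B F y * ((algebraMap B F b0)⁻¹ * ((algebraMap A F (a0 * a1))⁻¹ *
        ((algebraMap B F b0)⁻¹) ^ M)) ^ n := by
      have h4 := hne _ (mul_ne_zero ha0 ha10)
      have h5 := hne' _ hb0
      have h6 : algebraMap B F (b0 * b1) * ((algebraMap B F b0)⁻¹ * ((algebraMap A F (a0 * a1))⁻¹ *
        ((algebraMap B F b0)⁻¹) ^ M)) = 1 := by
        rw [map_mul (algebraMap B F), ← hb1, inv_pow]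
        have h7 : (algebraMap B F b0) ^ M ≠ 0 := pow_ne_zero _ (hne' _ hb0)
        field_simp
      rw [← hy, mul_assoc, ← mul_pow, h6, one_pow, mul_one]
    rw [e]
    exact Subalgebra.mul_mem _ (h1 y) (Subalgebra.pow_mem _ (Subalgebra.mul_mem _ h2
      (Subalgebra.mul_mem _ h3 (Subalgebra.pow_mem _ h2 _))) _)

section Loc

variable {A : Type*} [CommRing A] [Algebra k A] [Algebra A F] [IsScalarTower k A F]
  [IsFractionRing A F]

/-- the inclusion `A → A[1/a]` -/
noncomputable def incl (a : A) : A →+* L (k := k) (F := F) A a :=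
  (algebraMap A F).codRestrict (L (k := k) (F := F) A a) (algebraMap_mem_L a)

theorem isLocalization (a : A) (ha : a ≠ 0) :
    letI := (incl (k := k) (F := F) a).toAlgebra
    IsLocalization.Away a (L (k := k) (F := F) A a) := by
  let _ := (incl (k := k) (F := F) a).toAlgebra
  have hAinj : Function.Injective (algebraMap A F) := IsFractionRing.injective A F
  have hne : algebraMap A F a ≠ 0 := fun h => ha (hAinj (by rw [h, map_zero]))
  have hinv : (algebraMap A F a)⁻¹ ∈ L (k := k) (F := F) A a :=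
    ⟨1, 1, by rw [pow_one, map_one, inv_mul_cancel₀ hne]⟩
  refine ⟨?_, ?_, ?_⟩
  · rintro ⟨_, n, rfl⟩
    change IsUnit (incl (k := k) (F := F) a (a ^ n))
    rw [map_pow]
    refine IsUnit.pow _ ?_
    refine IsUnit.of_mul_eq_one ⟨_, hinv⟩ ?_
    apply Subtype.ext
    exact mul_inv_cancel₀ hne
  · rintro ⟨c, n, x, hx⟩
    refine ⟨⟨x, ⟨a ^ n, n, rfl⟩⟩, ?_⟩
    apply Subtype.ext
    change c * algebraMap A F (a ^ n) = algebraMap A F x
    rw [map_pow, hx]
  · intro x y hxy
    refine ⟨1, ?_⟩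
    have h1 : algebraMap A F x = algebraMap A F y := congrArg Subtype.val hxy
    rw [hAinj h1]

end Loc

end K426.CommonLoc
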