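import Groth.Agent.VarietyB.ProjStd
import Groth.Agent.Picfga.ProjTwist

/-!
Sections of the structure sheaf of projective space over `D₊(l)` for a linear form `l`.
-/

set_option autoImplicit false

universe u

open AlgebraicGeometry CategoryTheory HomogeneousLocalization

namespace K426.Deh

open Groth.Agent.VarietyB.ProjHom Groth.Agent.VarietyB.ProjGlue Groth.Agent.VarietyB.ProjStd
open Groth.Agent.Picfga.ProjGlue

attribute [local instance] MvPolynomial.gradedAlgebra

variable (I : Type) (R : Type u) [CommRing R] {l : MvPolynomial I R}
  (hl : l ∈ MvPolynomial.homogeneousSubmodule I R 1)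

/-- dehomogenization with respect to a linear form -/
noncomputable def deh : MvPolynomial I R →+* Away (MvPolynomial.homogeneousSubmodule I R) l :=
  MvPolynomial.eval₂Hom ((fromZeroRingHom (MvPolynomial.homogeneousSubmodule I R) _).comp
    (algebraMap R (MvPolynomial.homogeneousSubmodule I R 0)))
    (fun k => Away.mk _ hl 1 (MvPolynomial.X k)
      (by simpa using MvPolynomial.isHomogeneous_X R k))

theorem deh_of_isHomogeneous {n : ℕ} (a : MvPolynomial I R)
    (ha : a ∈ MvPolynomial.homogeneousSubmodule I R (n • 1)) :
    deh I R hl a = Away.mk _ hl n a ha := by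
  apply HomogeneousLocalization.val_injective
  rw [Away.val_mk]
  have h1 : ((algebraMap (Away (MvPolynomial.homogeneousSubmodule I R) l)
      (Localization.Away l)).comp (deh I R hl)) =
      MvPolynomial.eval₂Hom ((algebraMap (MvPolynomial I R)
        (Localization.Away l)).comp MvPolynomial.C)
        (fun k => Localization.mk 1 (⟨l, Submonoid.mem_powers _⟩ :
          Submonoid.powers l) * algebraMap (MvPolynomial I R)
          (Localization.Away l) (MvPolynomial.X k)) := by
    apply MvPolynomial.ringHom_ext
    · intro r
      simp only [deh, RingHom.comp_apply, MvPolynomial.eval₂Hom_C]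
      rfl
    · intro k
      simp only [deh, RingHom.comp_apply, MvPolynomial.eval₂Hom_X', HomogeneousLocalization.algebraMap_apply,
        Away.val_mk]
      rw [← Localization.mk_one_eq_algebraMap, Localization.mk_mul]
      congr 1
      · simp
      · ext; simp
  have h2 := congrArg (fun φ => φ a) h1
  simp only [RingHom.comp_apply, HomogeneousLocalization.algebraMap_apply] at h2
  rw [h2, eval₂Hom_smul_of_isHomogeneous _ _ _ ha]
  have h3 : MvPolynomial.eval₂Hom ((algebraMap (MvPolynomial I R)
        (Localization.Away l)).comp MvPolynomial.C)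
        (fun k => algebraMap (MvPolynomial I R)
          (Localization.Away l) (MvPolynomial.X k)) =
      algebraMap (MvPolynomial I R) (Localization.Away l) := by
    apply MvPolynomial.ringHom_ext
    · intro r; simp
    · intro k; simp
  rw [h3, ← Localization.mk_one_eq_algebraMap, Localization.mk_pow, Localization.mk_mul]
  congr 1
  · simp
  · ext; simp

theorem deh_surjective : Function.Surjective (deh I R hl) := by
  intro z
  obtain ⟨n, a, ha, rfl⟩ := Away.mk_surjective _ hl z
  exact ⟨a, deh_of_isHomogeneous I R hl a ha⟩

include hl in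
theorem baseHom_eq : CoordData.baseHom (toSpec I R)
    (Proj.basicOpen (MvPolynomial.homogeneousSubmodule I R) l) =
      (Proj.awayToSection (MvPolynomial.homogeneousSubmodule I R) l).hom.comp
        ((fromZeroRingHom (MvPolynomial.homogeneousSubmodule I R) _).comp
        (algebraMap R (MvPolynomial.homogeneousSubmodule I R 0))) := by
  apply toSpecΓ_map_injective
  rw [toSpecΓ_baseHom, toSpec, ← Category.assoc, ι_toSpecZero _ hl Nat.one_pos]
  simp only [Category.assoc, ← Spec.map_comp]
  rfl

/-- Evaluation of polynomials on `D₊(l)`. -/
noncomputable def evP : MvPolynomial I R →+* Γ(Proj (MvPolynomial.homogeneousSubmodule I R),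
    Proj.basicOpen (MvPolynomial.homogeneousSubmodule I R) l) :=
  (Proj.awayToSection (MvPolynomial.homogeneousSubmodule I R) l).hom.comp (deh I R hl)

theorem evP_C (r : R) : evP I R hl (MvPolynomial.C r) = CoordData.baseHom (toSpec I R)
    (Proj.basicOpen (MvPolynomial.homogeneousSubmodule I R) l) r := by
  rw [baseHom_eq I R hl]
  have h1 : deh I R hl (MvPolynomial.C r) = fromZeroRingHom (MvPolynomial.homogeneousSubmodule I R) _
      (algebraMap R (MvPolynomial.homogeneousSubmodule I R 0) r) := by
    simp [deh]
  exact congrArg (Proj.awayToSection (MvPolynomial.homogeneousSubmodule I R) l).hom h1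

theorem evP_linear (a : MvPolynomial I R) (ha : a ∈ MvPolynomial.homogeneousSubmodule I R 1) :
    evP I R hl a = frac (𝒜 := MvPolynomial.homogeneousSubmodule I R) a l ⟨1, ha, hl⟩
      (Proj.basicOpen (MvPolynomial.homogeneousSubmodule I R) l) le_rfl := by
  have h1 := deh_of_isHomogeneous I R hl (n := 1) a (by simpa using ha)
  change (Proj.awayToSection (MvPolynomial.homogeneousSubmodule I R) l).hom (deh I R hl a) = _
  rw [h1, awayToSection_mk]
  exact frac_eq _ _ _ _ _ _ _ _ _ (by rw [pow_one])

theorem evP_surjective : Function.Surjective (evP I R hl) :=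
  (Proj.basicOpenIsoAway (MvPolynomial.homogeneousSubmodule I R) l hl
    Nat.one_pos).commRingCatIsoToRingEquiv.surjective.comp (deh_surjective I R hl)

end K426.Deh
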