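import Mathlib.RingTheory.Ideal.Over
import Mathlib.RingTheory.Nakayama
import Mathlib.RingTheory.Finiteness.Quotient
import Mathlib.FieldTheory.IsAlgClosed.AlgebraicClosure
import Mathlib.FieldTheory.Minpoly.Field
import Mathlib.Algebra.DualNumber
import Mathlib.RingTheory.DualNumber
import Mathlib.RingTheory.Adjoin.Polynomial.Basic

/-!
A finite monogenic algebra `A → B = A[u]` is surjective unless some geometric fibre has two points or
a nonzero tangent vector.
-/

set_option autoImplicit false

universe u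

namespace K426.Monogenic

open Polynomial

/-- Homomorphisms out of a monogenic algebra over a field. -/
theorem exists_lift {κ B R : Type*} [Field κ] [CommRing B] [Algebra κ B] [CommRing R] [Algebra κ R]
    (u : B) (hu : Algebra.adjoin κ {u} = ⊤) (r : R) (hr : aeval r (minpoly κ u) = 0) :
    ∃ φ : B →ₐ[κ] R, φ u = r := by
  have hsurj : Function.Surjective (aeval u : κ[X] →ₐ[κ] B) := by
    rw [← AlgHom.range_eq_top, ← Algebra.adjoin_singleton_eq_range_aeval, hu]
  have hker : ∀ f : κ[X], f ∈ RingHom.ker (aeval u : κ[X] →ₐ[κ] B) → aeval r f = 0 := by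
    intro f hf
    obtain ⟨g, hg⟩ := minpoly.dvd κ u hf
    rw [hg, map_mul, hr, zero_mul]
  refine ⟨(Ideal.Quotient.liftₐ _ (aeval r) hker).comp
    (Ideal.quotientKerAlgEquivOfSurjective hsurj).symm.toAlgHom, ?_⟩
  have h1 : (Ideal.quotientKerAlgEquivOfSurjective hsurj).symm u = Ideal.Quotient.mk _ X := by
    rw [AlgEquiv.symm_apply_eq]
    simp
  rw [AlgHom.comp_apply]
  change Ideal.Quotient.liftₐ _ (aeval r) hker ((Ideal.quotientKerAlgEquivOfSurjective hsurj).symm u) = r
  rw [h1]
  simp

theorem field_case {κ B : Type*} [Field κ] [CommRing B] [Algebra κ B] [Module.Finite κ B] (u : B)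
    (hu : Algebra.adjoin κ {u} = ⊤) (hns : ¬ Function.Surjective (algebraMap κ B)) :
    (∃ φ ψ : B →ₐ[κ] AlgebraicClosure κ, φ u ≠ ψ u) ∨
    (∃ Φ : B →ₐ[κ] TrivSqZeroExt (AlgebraicClosure κ) (AlgebraicClosure κ), (Φ u).snd = 1) := by
  let Ω := AlgebraicClosure κ
  have hint : IsIntegral κ u := Algebra.IsIntegral.isIntegral u
  have hB : Nontrivial B := by
    by_contra h
    rw [not_nontrivial_iff_subsingleton] at h
    exact hns fun b => ⟨0, Subsingleton.elim _ _⟩
  let f := minpoly κ u
  have hf : f.Monic := minpoly.monic hint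
  have hdeg : 2 ≤ f.natDegree := by
    by_contra hlt
    have h1 : f.natDegree = 1 := by
      have := minpoly.natDegree_pos hint
      change 0 < f.natDegree at this
      omega
    apply hns
    have h2 : u ∈ (algebraMap κ B).range := minpoly.mem_range_of_degree_eq_one κ u (by
      rw [Polynomial.degree_eq_natDegree hf.ne_zero]
      exact_mod_cast h1)
    have h3 : (⊤ : Subalgebra κ B) ≤ (⊥ : Subalgebra κ B) := by
      rw [← hu]
      exact Algebra.adjoin_le (Set.singleton_subset_iff.mpr (Algebra.mem_bot.mpr h2))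
    intro b
    exact Algebra.mem_bot.mp (h3 (Algebra.mem_top (x := b)))
  let F : Ω[X] := f.map (algebraMap κ Ω)
  have hF : F.Monic := hf.map _
  have hFdeg : F.natDegree = f.natDegree := hf.natDegree_map _
  obtain ⟨α, hα⟩ := IsAlgClosed.exists_root F (by
    rw [Polynomial.degree_eq_natDegree hF.ne_zero]
    intro h
    have : F.natDegree = 0 := by exact_mod_cast h
    omega)
  obtain ⟨g, hg⟩ := dvd_iff_isRoot.mpr hα
  have hg0 : g ≠ 0 := by
    rintro rfl
    rw [mul_zero] at hg
    exact hF.ne_zero hg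
  have hgdeg : g.natDegree ≠ 0 := by
    intro h
    have h1 : F.natDegree = 1 + g.natDegree := by
      rw [hg, Polynomial.natDegree_mul (X_sub_C_ne_zero α) hg0, natDegree_X_sub_C]
    omega
  obtain ⟨β, hβ⟩ := IsAlgClosed.exists_root g (by
    rw [Polynomial.degree_eq_natDegree hg0]
    exact_mod_cast hgdeg)
  obtain ⟨h, hh⟩ := dvd_iff_isRoot.mpr hβ
  have key : ∀ {R : Type _} [CommRing R] [Algebra κ R] [Algebra Ω R] [IsScalarTower κ Ω R] (r : R),
      (r - algebraMap Ω R α) * (r - algebraMap Ω R β) = 0 → aeval r f = 0 := by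
    intro R _ _ _ _ r hr
    have h1 : aeval r f = aeval r F := by
      rw [Polynomial.aeval_map_algebraMap]
    rw [h1, hg, hh, ← mul_assoc, map_mul, map_mul]
    simp only [map_sub, aeval_X, aeval_C]
    rw [hr, zero_mul]
  by_cases hαβ : α = β
  · right
    subst hαβ
    obtain ⟨Φ, hΦ⟩ := exists_lift (R := TrivSqZeroExt Ω Ω) u hu
      (algebraMap Ω _ α + TrivSqZeroExt.inr 1) (key _ (by
        rw [add_sub_cancel_left, TrivSqZeroExt.inr_mul_inr]))
    refine ⟨Φ, ?_⟩
    rw [hΦ]
    simp [TrivSqZeroExt.algebraMap_eq_inl']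
  · left
    obtain ⟨φ, hφ⟩ := exists_lift (R := Ω) u hu α (key _ (by simp))
    obtain ⟨ψ, hψ⟩ := exists_lift (R := Ω) u hu β (key _ (by simp))
    exact ⟨φ, ψ, by rw [hφ, hψ]; exact hαβ⟩

/-- Surjectivity of a finite algebra can be checked on the fibres. -/
theorem exists_maximal {A B : Type*} [CommRing A] [CommRing B] [Algebra A B] [Module.Finite A B]
    (hns : ¬ Function.Surjective (algebraMap A B)) :
    ∃ m : Ideal A, m.IsMaximal ∧
      ¬ Function.Surjective (algebraMap (A ⧸ m) (B ⧸ m.map (algebraMap A B))) := by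
  let N : Submodule A B := LinearMap.range (Algebra.linearMap A B)
  let I : Ideal A := N.colon (⊤ : Submodule A B)
  have hI : I ≠ ⊤ := by
    intro h
    apply hns
    intro b
    have h1 : (1 : A) ∈ N.colon (⊤ : Submodule A B) := by
      change (1 : A) ∈ I
      rw [h]; trivial
    have h2 := Submodule.mem_colon.mp h1 b trivial
    rw [one_smul] at h2
    exact h2
  obtain ⟨m, hm, hIm⟩ := Ideal.exists_le_maximal I hI
  refine ⟨m, hm, fun hs => ?_⟩
  obtain ⟨r, hr1, hr2⟩ := Submodule.exists_sub_one_mem_and_smul_le_of_fg_of_le_sup (I := m) (N := N)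
    (N' := (⊤ : Submodule A B)) (P := ⊤) Module.Finite.fg_top le_rfl (by
      intro b _
      obtain ⟨a, ha⟩ := hs (Ideal.Quotient.mk _ b)
      obtain ⟨a, rfl⟩ := Ideal.Quotient.mk_surjective a
      have h1 : Ideal.Quotient.mk (m.map (algebraMap A B)) (algebraMap A B a) =
        Ideal.Quotient.mk _ b := ha
      have h2 : b - algebraMap A B a ∈ m.map (algebraMap A B) := by
        rw [← Ideal.Quotient.eq, h1]
      have h3 : b - algebraMap A B a ∈ (m • (⊤ : Submodule A B)) := by
        rw [Ideal.smul_top_eq_map]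
        exact h2
      have h4 : b = algebraMap A B a + (b - algebraMap A B a) := by ring
      rw [h4]
      exact Submodule.add_mem_sup ⟨a, rfl⟩ h3)
  have hrI : r ∈ I := by
    refine Submodule.mem_colon.mpr fun b _ => hr2 ?_
    exact Submodule.smul_mem_pointwise_smul b r _ trivial
  apply hm.ne_top
  rw [Ideal.eq_top_iff_one]
  have := m.sub_mem (hIm hrI) hr1
  rwa [sub_sub_cancel] at this

theorem exists_of_not_surjective {k A B : Type u} [Field k] [CommRing A] [CommRing B] [Algebra k A]
    [Algebra k B] [Algebra A B] [IsScalarTower k A B] [Module.Finite A B] (u : B)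
    (hu : Algebra.adjoin A {u} = ⊤) (hns : ¬ Function.Surjective (algebraMap A B)) :
    ∃ (Ω : Type u) (_ : Field Ω) (_ : Algebra k Ω),
      (∃ φ ψ : B →ₐ[k] Ω, (∀ a : A, φ (algebraMap A B a) = ψ (algebraMap A B a)) ∧ φ u ≠ ψ u) ∨
      (∃ Φ : B →ₐ[k] TrivSqZeroExt Ω Ω, (∀ a : A, (Φ (algebraMap A B a)).snd = 0) ∧ (Φ u).snd = 1) := by
  obtain ⟨m, hm, hmns⟩ := exists_maximal hns
  let _ : Field (A ⧸ m) := Ideal.Quotient.field m
  let κ := A ⧸ m
  let B' := B ⧸ m.map (algebraMap A B)
  have hfin : Module.Finite A B' := inferInstance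
  have hfin' : Module.Finite κ B' := Module.Finite.of_restrictScalars_finite A κ B'
  have hadj : Algebra.adjoin κ {(Ideal.Quotient.mk (m.map (algebraMap A B)) u : B')} = ⊤ := by
    rw [eq_top_iff]
    rintro b -
    obtain ⟨b, rfl⟩ := Ideal.Quotient.mk_surjective b
    have hb : b ∈ Algebra.adjoin A {u} := by rw [hu]; trivial
    induction hb using Algebra.adjoin_induction with
    | mem x hx =>
      rw [Set.mem_singleton_iff.mp hx]
      exact Algebra.subset_adjoin rfl
    | algebraMap a =>
      exact Subalgebra.algebraMap_mem _ (Ideal.Quotient.mk m a)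
    | add x y _ _ hx hy => rw [map_add]; exact add_mem hx hy
    | mul x y _ _ hx hy => rw [map_mul]; exact mul_mem hx hy
  let q : B →ₐ[k] B' := Ideal.Quotient.mkₐ k _
  have htow : IsScalarTower k κ B' := IsScalarTower.of_algebraMap_eq fun c => by
    change Ideal.Quotient.mk (m.map (algebraMap A B)) (algebraMap k B c) =
      Ideal.Quotient.mk (m.map (algebraMap A B)) (algebraMap A B (algebraMap k A c))
    rw [← IsScalarTower.algebraMap_apply]
  refine ⟨AlgebraicClosure κ, inferInstance, inferInstance, ?_⟩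
  have hq : ∀ a : A, q (algebraMap A B a) = algebraMap κ B' (Ideal.Quotient.mk m a) := fun a => rfl
  rcases field_case (κ := κ) (B := B') (Ideal.Quotient.mk _ u) hadj hmns with ⟨φ, ψ, h⟩ | ⟨Φ, h⟩
  · left
    refine ⟨(φ.restrictScalars k).comp q, (ψ.restrictScalars k).comp q, fun a => ?_, h⟩
    change φ (q (algebraMap A B a)) = ψ (q (algebraMap A B a))
    rw [hq, φ.commutes, ψ.commutes]
  · right
    refine ⟨(Φ.restrictScalars k).comp q, fun a => ?_, h⟩
    change (Φ (q (algebraMap A B a))).snd = 0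
    rw [hq, Φ.commutes]
    rfl

end K426.Monogenic
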