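import Groth.Agent.Variety.K426.AlgDep
import Groth.Agent.An.H548.RelDim
import Mathlib.RingTheory.Smooth.StandardSmoothCotangent
import Mathlib.RingTheory.DualNumber

/-!
Polynomials vanishing on secants and tangents of affine algebras of small dimension.
-/

set_option autoImplicit false

universe u

open MvPolynomial TensorProduct

namespace K426.SecTan

variable {k : Type u} [Field k]

/-- Evaluation. -/
noncomputable def ev {A K : Type u} [CommRing A] [Algebra k A] [CommRing K] [Algebra k K] {r : ℕ}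
    (φ : A →ₐ[k] K) (c : Fin r → K) : MvPolynomial (Fin r) A →ₐ[k] K :=
  { eval₂Hom (φ : A →+* K) c with
    commutes' := fun a => by
      change eval₂Hom (φ : A →+* K) c (algebraMap k (MvPolynomial (Fin r) A) a) = _
      rw [IsScalarTower.algebraMap_apply k A (MvPolynomial (Fin r) A), MvPolynomial.algebraMap_eq,
        eval₂Hom_C]
      exact φ.commutes a }

theorem ev_X {A K : Type u} [CommRing A] [Algebra k A] [CommRing K] [Algebra k K] {r : ℕ}
    (φ : A →ₐ[k] K) (c : Fin r → K) (i : Fin r) : ev φ c (X i) = c i := by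
  change eval₂Hom (φ : A →+* K) c (X i) = _
  rw [eval₂Hom_X']

theorem ev_C {A K : Type u} [CommRing A] [Algebra k A] [CommRing K] [Algebra k K] {r : ℕ}
    (φ : A →ₐ[k] K) (c : Fin r → K) (a : A) : ev φ c (C a) = φ a := by
  change eval₂Hom (φ : A →+* K) c (C a) = _
  rw [eval₂Hom_C]
  rfl

/-- A polynomial vanishing on the secants. -/
theorem exists_secant (A B : Type u) [CommRing A] [CommRing B] [Algebra k A] [Algebra k B]
    [Algebra.FiniteType k A] [Algebra.FiniteType k B] {d m : ℕ} (hA : ringKrullDim A ≤ d)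
    (hB : ringKrullDim B ≤ d) (x : Fin m → A) (y : Fin m → B) (hm : 2 * d + 2 < m) :
    ∃ F : MvPolynomial (Fin m) k, F ≠ 0 ∧ ∀ (K : Type u) [Field K] [Algebra k K] (φ : A →ₐ[k] K)
      (ψ : B →ₐ[k] K) (s t : K), aeval (fun i => s * φ (x i) + t * ψ (y i)) F = 0 := by
  have hft := AlgDep.finiteType_tensor k A B
  have hft' : Algebra.FiniteType k (MvPolynomial (Fin 2) (A ⊗[k] B)) :=
    Algebra.FiniteType.trans hft inferInstance
  let z : Fin m → MvPolynomial (Fin 2) (A ⊗[k] B) := fun i =>
    X 0 * C (x i ⊗ₜ 1) + X 1 * C (1 ⊗ₜ y i)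
  obtain ⟨F, hF, hF'⟩ := AlgDep.exists_aeval_eq_zero k (MvPolynomial (Fin 2) (A ⊗[k] B)) z (by
    refine lt_of_le_of_lt (AlgDep.ringKrullDim_tensor_mvPolynomial_le k A B d d 2 hA hB) ?_
    exact_mod_cast (by omega : d + d + 2 < m))
  refine ⟨F, hF, fun K _ _ φ ψ s t => ?_⟩
  let Ψ : MvPolynomial (Fin 2) (A ⊗[k] B) →ₐ[k] K :=
    ev (Algebra.TensorProduct.lift φ ψ fun _ _ => mul_comm _ _) ![s, t]
  have h1 : ∀ i, Ψ (z i) = s * φ (x i) + t * ψ (y i) := by
    intro i
    simp [Ψ, z, ev_X, ev_C]
  have h2 := congrArg Ψ hF'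
  rw [map_zero, MvPolynomial.comp_aeval_apply] at h2
  simpa only [h1] using h2

theorem exists_generators (A : Type u) [CommRing A] [Algebra k A] [Algebra.FiniteType k A] {d : ℕ}
    (hA : ringKrullDim A ≤ d) (p : Ideal A) [p.IsPrime] (hp : Algebra.IsSmoothAt k p) :
    ∃ g ∉ p, ∃ ω : Fin d → Ω[Localization.Away g⁄k],
      Submodule.span (Localization.Away g) (Set.range ω) = ⊤ := by
  have : Algebra.FinitePresentation k A := Algebra.FinitePresentation.of_finiteType.1 inferInstance
  obtain ⟨g, hg, hsm⟩ := Algebra.IsSmoothAt.exists_notMem_isStandardSmooth k p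
  obtain ⟨_, _, _, _, ⟨P⟩⟩ := hsm
  have h0 : Algebra.IsStandardSmoothOfRelativeDimension P.dimension k (Localization.Away g) :=
    ⟨_, _, _, ‹_›, P, rfl⟩
  have h1 : (algebraMap k (Localization.Away g)).IsStandardSmoothOfRelativeDimension P.dimension := by
    rw [RingHom.isStandardSmoothOfRelativeDimension_algebraMap]
    exact h0
  have h0' : Algebra.IsStandardSmooth k (Localization.Away g) := h0.isStandardSmooth
  refine ⟨g, hg, ?_⟩
  obtain ⟨η, hη, hle⟩ := Ideal.exists_minimalPrimes_le (I := ⊥) (J := p) bot_le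
  have hηp : η.IsPrime := hη.1.1
  have h2 := Groth.Agent.An.H548.RelDim.rtd_away (k := k) g P.dimension h1 η hη (fun h => hg (hle h))
  rw [Groth.Agent.An.H548.RelDim.rtd_bot_eq] at h2
  obtain ⟨m, hm1, hm2⟩ := Groth.Agent.Ega4B.DimFT.exists_dim k (A ⧸ η)
  rw [hm1] at h2
  have h5 : m = P.dimension := by exact_mod_cast h2
  have h6 : m ≤ d := by
    have h7 := (ringKrullDim_quotient_le η).trans hA
    rw [hm2] at h7
    exact_mod_cast h7
  have hnt : Nontrivial (Localization.Away g) := by
    rw [← not_subsingleton_iff_nontrivial]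
    intro hs
    have h8 := (IsLocalization.subsingleton_iff (M := Submonoid.powers g) (S := Localization.Away g)).mp hs
    obtain ⟨n, hn⟩ := h8
    exact hg (Ideal.IsPrime.mem_of_pow_mem ‹p.IsPrime› n (by
      have hn' : g ^ n = 0 := hn
      rw [hn']; exact p.zero_mem))
  have hrank := Algebra.IsStandardSmoothOfRelativeDimension.rank_kaehlerDifferential (R := k)
    (S := Localization.Away g) P.dimension
  have hfr : Module.finrank (Localization.Away g) Ω[Localization.Away g⁄k] = P.dimension := by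
    exact Module.finrank_eq_of_rank_eq hrank
  let b := Module.finBasisOfFinrankEq (Localization.Away g) Ω[Localization.Away g⁄k] hfr
  refine ⟨fun i => if h : i.1 < P.dimension then b ⟨i.1, h⟩ else 0, ?_⟩
  rw [eq_top_iff, ← b.span_eq, Submodule.span_le]
  rintro _ ⟨i, rfl⟩
  refine Submodule.subset_span ⟨⟨i.1, by omega⟩, ?_⟩
  simp

section Der

variable {A K : Type u} [CommRing A] [Algebra k A] [Field K] [Algebra k K]

/-- The derivation of a homomorphism to the dual numbers. -/
noncomputable def der (Φ : A →ₐ[k] TrivSqZeroExt K K) :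
    letI : Algebra A K := ((TrivSqZeroExt.fstHom k K K).comp Φ).toRingHom.toAlgebra
    Derivation k A K :=
  letI : Algebra A K := ((TrivSqZeroExt.fstHom k K K).comp Φ).toRingHom.toAlgebra
  Derivation.mk' 
    { toFun := fun a => (Φ a).snd
      map_add' := fun a b => by rw [map_add]; rfl
      map_smul' := fun r a => by rw [map_smul]; rfl } fun a b => by
    change (Φ (a * b)).snd = (Φ a).fst * (Φ b).snd + (Φ b).fst * (Φ a).snd
    rw [map_mul, TrivSqZeroExt.snd_mul, smul_eq_mul, op_smul_eq_mul, mul_comm (Φ a).snd]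

theorem der_apply (Φ : A →ₐ[k] TrivSqZeroExt K K) (a : A) : der Φ a = (Φ a).snd := rfl

end Der

theorem ringKrullDim_le_of_isLocalization {A B : Type*} [CommRing A] [CommRing B] [Algebra A B]
    (M : Submonoid A) [IsLocalization M B] : ringKrullDim B ≤ ringKrullDim A := by
  refine Order.krullDim_le_of_strictMono (PrimeSpectrum.comap (algebraMap A B)) ?_
  refine Monotone.strictMono_of_injective (fun p q h => Ideal.comap_mono h) ?_
  exact PrimeSpectrum.localization_comap_injective B M

/-- A polynomial vanishing on the tangent vectors near a point. -/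
theorem exists_tangent_local (A : Type u) [CommRing A] [Algebra k A] [Algebra.FiniteType k A] {d m : ℕ}
    (hA : ringKrullDim A ≤ d) (p : Ideal A) [p.IsPrime] (hp : Algebra.IsSmoothAt k p)
    (x : Fin m → A) (hm : 2 * d + 1 < m) :
    ∃ g ∉ p, ∃ F : MvPolynomial (Fin m) k, F ≠ 0 ∧ ∀ (K : Type u) [Field K] [Algebra k K]
      (Φ : A →ₐ[k] TrivSqZeroExt K K), (Φ g).fst ≠ 0 → ∀ s t : K,
        aeval (fun i => s * (Φ (x i)).snd + t * (Φ (x i)).fst) F = 0 := by
  obtain ⟨g, hg, ω, hω⟩ := exists_generators A hA p hp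
  let L := Localization.Away g
  have hft : Algebra.FiniteType A L := inferInstance
  have hft : Algebra.FiniteType k L := Algebra.FiniteType.trans (S := A) inferInstance hft
  have hL : ringKrullDim L ≤ d := (ringKrullDim_le_of_isLocalization (Submonoid.powers g)).trans hA
  have hc : ∀ i, ∃ c : Fin d → L, ∑ s, c s • ω s = KaehlerDifferential.D k L (algebraMap A L (x i)) := by
    intro i
    rw [← Submodule.mem_span_range_iff_exists_fun, hω]
    trivial
  choose c hc using hc
  have hft' : Algebra.FiniteType k (MvPolynomial (Fin (d + 1)) L) :=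
    Algebra.FiniteType.trans hft inferInstance
  let z : Fin m → MvPolynomial (Fin (d + 1)) L := fun i =>
    ∑ s : Fin d, X s.castSucc * C (c i s) + X (Fin.last d) * C (algebraMap A L (x i))
  obtain ⟨F, hF, hF'⟩ := AlgDep.exists_aeval_eq_zero k (MvPolynomial (Fin (d + 1)) L) z (by
    refine lt_of_le_of_lt (AlgDep.ringKrullDim_mvPolynomial_le k L d (d + 1) hL) ?_
    exact_mod_cast (by omega : d + (d + 1) < m))
  refine ⟨g, hg, F, hF, fun K _ _ Φ hΦ s t => ?_⟩
  have hu : IsUnit (Φ g) := TrivSqZeroExt.isUnit_iff_isUnit_fst.mpr (isUnit_iff_ne_zero.mpr hΦ)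
  let Φ' : L →ₐ[k] TrivSqZeroExt K K :=
    { IsLocalization.Away.lift (S := L) g (g := (Φ : A →+* TrivSqZeroExt K K)) hu with
      commutes' := fun r => by
        change IsLocalization.Away.lift (S := L) g (g := (Φ : A →+* TrivSqZeroExt K K)) hu
          (algebraMap k L r) = _
        rw [IsScalarTower.algebraMap_apply k A L, IsLocalization.Away.lift_eq]
        exact Φ.commutes r }
  have hΦ' : ∀ a, Φ' (algebraMap A L a) = Φ a := fun a =>
    IsLocalization.Away.lift_eq (S := L) g (g := (Φ : A →+* TrivSqZeroExt K K)) hu a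
  let φ : L →ₐ[k] K := (TrivSqZeroExt.fstHom k K K).comp Φ'
  let _ : Algebra L K := φ.toRingHom.toAlgebra
  have _ : IsScalarTower k L K := IsScalarTower.of_algebraMap_eq fun r => (φ.commutes r).symm
  let δ : Derivation k L K := der Φ'
  let w : Fin d → K := fun j => s * δ.liftKaehlerDifferential (ω j)
  let Ψ : MvPolynomial (Fin (d + 1)) L →ₐ[k] K := ev φ (Fin.snoc (α := fun _ => K) w t)
  have h1 : ∀ i, Ψ (z i) = s * (Φ (x i)).snd + t * (Φ (x i)).fst := by
    intro i
    have h2 : (Φ (x i)).snd = ∑ j, φ (c i j) * δ.liftKaehlerDifferential (ω j) := by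
      rw [← hΦ', ← der_apply Φ']
      change δ (algebraMap A L (x i)) = _
      rw [← Derivation.liftKaehlerDifferential_comp_D, ← hc i, map_sum]
      refine Finset.sum_congr rfl fun j _ => ?_
      rw [map_smul]
      rfl
    have h3 : (Φ (x i)).fst = φ (algebraMap A L (x i)) := by
      rw [← hΦ']; rfl
    rw [h2, h3, Finset.mul_sum]
    simp only [z, Ψ, map_add, map_sum, map_mul, ev_X, ev_C, Fin.snoc_castSucc, Fin.snoc_last, w]
    congr 1
    refine Finset.sum_congr rfl fun j _ => ?_
    ring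
  have h2 := congrArg Ψ hF'
  rw [map_zero, MvPolynomial.comp_aeval_apply] at h2
  simpa only [h1] using h2

/-- A polynomial vanishing on the tangent vectors. -/
theorem exists_tangent (A : Type u) [CommRing A] [Algebra k A] [Algebra.FiniteType k A] {d m : ℕ}
    (hA : ringKrullDim A ≤ d) (hs : ∀ (p : Ideal A) [p.IsPrime], Algebra.IsSmoothAt k p)
    (x : Fin m → A) (hm : 2 * d + 1 < m) :
    ∃ F : MvPolynomial (Fin m) k, F ≠ 0 ∧ ∀ (K : Type u) [Field K] [Algebra k K]
      (Φ : A →ₐ[k] TrivSqZeroExt K K) (s t : K),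
        aeval (fun i => s * (Φ (x i)).snd + t * (Φ (x i)).fst) F = 0 := by
  classical
  have hloc := fun p : PrimeSpectrum A => exists_tangent_local (k := k) A hA p.asIdeal (hs p.asIdeal) x hm
  choose g hg F hF hF' using hloc
  have hspan : Ideal.span (Set.range g) = ⊤ := by
    by_contra hne
    obtain ⟨m', hm', hle⟩ := Ideal.exists_le_maximal _ hne
    exact hg ⟨m', hm'.isPrime⟩ (hle (Ideal.subset_span ⟨_, rfl⟩))
  obtain ⟨t, ht, htop⟩ := (Ideal.span_eq_top_iff_finite _).mp hspan
  choose q hq using fun a : t => ht a.2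
  refine ⟨∏ a, F (q a), Finset.prod_ne_zero_iff.mpr fun a _ => hF _, fun K _ _ Φ s c => ?_⟩
  have hex : ∃ a : t, (Φ (g (q a))).fst ≠ 0 := by
    by_contra hcon
    push Not at hcon
    have h1 : Ideal.span (t : Set A) ≤
        RingHom.ker ((TrivSqZeroExt.fstHom k K K).comp Φ : A →ₐ[k] K) := by
      rw [Ideal.span_le]
      intro a ha
      have := hcon ⟨a, ha⟩
      rw [hq ⟨a, ha⟩] at this
      exact this
    rw [htop] at h1
    have h2 := h1 (show (1 : A) ∈ (⊤ : Ideal A) from trivial)
    rw [RingHom.mem_ker, map_one] at h2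
    exact one_ne_zero h2
  obtain ⟨a, ha⟩ := hex
  rw [map_prod]
  exact Finset.prod_eq_zero (Finset.mem_univ a) (hF' (q a) K Φ ha s c)

end K426.SecTan
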