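import Groth.Agent.Variety.K426.Charts
import Groth.Agent.Variety.K426.SecTan
import Groth.Agent.Variety.K426.Monogenic
import Mathlib.Algebra.MvPolynomial.Funext

/-!
Generic projections of smooth projective schemes.
-/

set_option autoImplicit false

universe u

open CategoryTheory CategoryTheory.Limits AlgebraicGeometry Topology CohB1
open Groth.Agent Groth.Agent.VarietyB Groth.Agent.VarietyB.ProjHom Groth.Agent.VarietyB.ProjGlue Groth.Agent.VarietyB.ProjStd

namespace K426.GenProj

section Fin

attribute [local instance] MvPolynomial.gradedAlgebra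

variable {X : Scheme.{u}} {I : Type} (D : CoordData X I) {R : Type u} [CommRing R]

/-- If the morphism to projective space is finite, then the coordinate rings are finite over the polynomial
ring. -/
theorem finite_hom (hD : ∀ i k, X.basicOpen (D.f i k) = D.U i ⊓ D.U k)
    (p : X ⟶ Spec (CommRingCat.of R)) (haff : ∀ i, IsAffineOpen (D.U i))
    (hfin : IsFinite (D.toProjSpace p)) (k : I) : (D.hom p k).Finite := by
  have hk := D.preimage_basicOpen hD p k
  let e := X.isoOfEq hk
  have : IsAffine (D.U k).toScheme := haff k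
  have h1 : (D.toProjSpace p ∣_ Proj.basicOpen (MvPolynomial.homogeneousSubmodule I R) (MvPolynomial.X k)) =
    (e.hom ≫ (D.U k).toScheme.toSpecΓ) ≫ Spec.map (CommRingCat.ofHom
      (awayLift (MvPolynomial.homogeneousSubmodule I R) (D.homTop p k)
      (MvPolynomial.X k) (D.isUnit_homTop p k))) ≫ (Proj.basicOpenIsoSpec (MvPolynomial.homogeneousSubmodule I R) _
      (MvPolynomial.isHomogeneous_X R k : MvPolynomial.X k ∈ MvPolynomial.homogeneousSubmodule I R 1)
        Nat.one_pos).inv := by
    rw [← cancel_mono (Proj.basicOpen _ _).ι, morphismRestrict_ι]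
    simp only [Category.assoc]
    have h2 := D.ι_toProjSpace p k
    rw [CoordData.localHom, toProj, Proj.awayι] at h2
    refine Eq.trans ?_ (congrArg (fun z => e.hom ≫ z) h2)
    rw [← Category.assoc, Scheme.isoOfEq_hom_ι]
  have hfin1 : IsFinite (D.toProjSpace p ∣_
      Proj.basicOpen (MvPolynomial.homogeneousSubmodule I R) (MvPolynomial.X k)) :=
    MorphismProperty.IsStableUnderBaseChange.of_isPullback (isPullback_morphismRestrict _ _).flip hfin
  rw [h1] at hfin1
  have hiso : IsIso (D.U k).toScheme.toSpecΓ := inferInstance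
  have h3 := (MorphismProperty.cancel_left_of_respectsIso @IsFinite _ _).mp hfin1
  have h4 := (MorphismProperty.cancel_right_of_respectsIso @IsFinite _ _).mp h3
  have h5 := (IsFinite.SpecMap_iff _).mp h4
  have h6 : (awayLift (MvPolynomial.homogeneousSubmodule I R) (D.homTop p k)
      (MvPolynomial.X k) (D.isUnit_homTop p k)).comp (deh I R k) = D.homTop p k := by
    have hX : (MvPolynomial.X k : MvPolynomial I R) ∈ MvPolynomial.homogeneousSubmodule I R 1 :=
      MvPolynomial.isHomogeneous_X R k
    have hone : D.homTop p k (MvPolynomial.X k) = 1 := by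
      rw [CoordData.homTop, RingHom.comp_apply, CoordData.hom_X, D.f_self, map_one]
    have key : ∀ (n : ℕ) (a : MvPolynomial I R)
        (ha : a ∈ MvPolynomial.homogeneousSubmodule I R (n • 1)),
        awayLift (MvPolynomial.homogeneousSubmodule I R) (D.homTop p k)
          (MvPolynomial.X k) (D.isUnit_homTop p k) (ProjStd.deh I R k a) = D.homTop p k a := by
      intro n a ha
      have h7 := awayLift_mk (MvPolynomial.homogeneousSubmodule I R) (D.homTop p k)
        (D.isUnit_homTop p k) hX n a ha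
      rw [hone, one_pow, mul_one] at h7
      rw [ProjStd.deh_of_isHomogeneous I R k a ha, h7]
    apply MvPolynomial.ringHom_ext
    · intro r
      exact key 0 _ (by simp)
    · intro m
      exact key 1 _ (by simpa using MvPolynomial.isHomogeneous_X R m)
  have h7 : (D.homTop p k).Finite := by
    rw [← h6]
    exact RingHom.Finite.comp h5 (RingHom.Finite.of_surjective _ (ProjStd.deh_surjective I R k))
  have h8 : D.hom p k = (D.U k).topIso.hom.hom.comp (D.homTop p k) := by
    rw [CoordData.homTop, ← RingHom.comp_assoc, ← CommRingCat.hom_comp, Iso.inv_hom_id]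
    rfl
  rw [h8]
  exact RingHom.Finite.comp (RingHom.Finite.of_surjective _
    (D.U k).topIso.commRingCatIsoToRingEquiv.surjective) h7

end Fin

section Rings

attribute [local instance] DimSch.secAlgebra

variable (k : Type u) [Field k] (X : Scheme.{u}) [X.Over (Spec (CommRingCat.of k))]

theorem dim_le {U : X.Opens} (hU : IsAffineOpen U) {d : ℕ} (hd : topologicalKrullDim X ≤ d) :
    ringKrullDim Γ(X, U) ≤ d := by
  rw [← DimSch.topologicalKrullDim_affineOpen hU]
  exact (topologicalKrullDim_subspace_le _ _).trans hd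

theorem isSmoothAt [Smooth (X ↘ Spec (CommRingCat.of k))] {U : X.Opens} (hU : IsAffineOpen U)
    (p : Ideal Γ(X, U)) [p.IsPrime] : Algebra.IsSmoothAt k p := by
  have h1 : ((X ↘ Spec (CommRingCat.of k)).appLE ⊤ U (by simp)).hom.Smooth :=
    HasRingHomProperty.appLE @Smooth (X ↘ Spec (CommRingCat.of k)) inferInstance
      ⟨⊤, isAffineOpen_top _⟩ ⟨U, hU⟩ (by simp)
  have h2 : ((Scheme.ΓSpecIso (CommRingCat.of k)).inv.hom).Smooth :=
    RingHom.Smooth.of_bijective
      (ConcreteCategory.bijective_of_isIso (Scheme.ΓSpecIso (CommRingCat.of k)).inv)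
  have h3 := RingHom.Smooth.comp h2 h1
  have h4 : DimSch.toSections k X U = ((X ↘ Spec (CommRingCat.of k)).appLE ⊤ U (by simp)).hom.comp
      (Scheme.ΓSpecIso (CommRingCat.of k)).inv.hom := by
    ext c
    simp [DimSch.toSections, Coh.toGlobal, Scheme.Hom.appLE]
  have h5 : (DimSch.toSections k X U).Smooth := by rw [h4]; exact h3
  have h6 : Algebra.Smooth k Γ(X, U) := h5
  have h7 : Algebra.FormallySmooth k (Localization.AtPrime p) :=
    Algebra.FormallySmooth.comp k Γ(X, U) (Localization.AtPrime p)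
  exact h7

end Rings

section Point

open Charts

attribute [local instance] DimSch.secAlgebra

variable {k : Type u} [Field k] {N : ℕ} {X : Scheme.{u}} [X.Over (Spec (CommRingCat.of k))]
  (ι : X ⟶ ProjSpace N k)

theorem hX (i : Fin (N + 1)) : (MvPolynomial.X i : MvPolynomial (Fin (N + 1)) k) ∈
    MvPolynomial.homogeneousSubmodule (Fin (N + 1)) k 1 := MvPolynomial.isHomogeneous_X k i

/-- A rational point which lies on no secant and no tangent line. -/
structure Good (P : Fin (N + 1) → k) : Prop where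
  ne : P 0 ≠ 0
  sec : ∀ (i j : Fin (N + 1)) (K : Type u) [Field K] [Algebra k K]
    (φ : Γ(X, U ι (MvPolynomial.X i)) →ₐ[k] K) (ψ : Γ(X, U ι (MvPolynomial.X j)) →ₐ[k] K) (s t : K),
    ¬ ∀ m, algebraMap k K (P m) =
      s * φ (E ι (hX i) (MvPolynomial.X m)) + t * ψ (E ι (hX j) (MvPolynomial.X m))
  tan : ∀ (i : Fin (N + 1)) (K : Type u) [Field K] [Algebra k K]
    (Φ : Γ(X, U ι (MvPolynomial.X i)) →ₐ[k] TrivSqZeroExt K K) (s t : K),
    ¬ ∀ m, algebraMap k K (P m) = s * (Φ (E ι (hX i) (MvPolynomial.X m))).snd +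
      t * (Φ (E ι (hX i) (MvPolynomial.X m))).fst

theorem aeval_algebraMap {K : Type u} [Field K] [Algebra k K] {m : ℕ} (P : Fin m → k)
    (F : MvPolynomial (Fin m) k) :
    MvPolynomial.aeval (fun i => algebraMap k K (P i)) F = algebraMap k K (MvPolynomial.eval P F) := by
  exact MvPolynomial.aeval_algebraMap_apply K P F

theorem exists_good [Infinite k] [Smooth (X ↘ Spec (CommRingCat.of k))] [IsAffineHom ι] {d : ℕ}
    (hd : topologicalKrullDim X ≤ d) (hN : 2 * d + 1 < N) : ∃ P : Fin (N + 1) → k, Good ι P := by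
  have haff : ∀ i : Fin (N + 1), IsAffineOpen (U ι (MvPolynomial.X i)) := fun i =>
    isAffineOpen_U ι (hX i)
  have hft : ∀ i : Fin (N + 1), Algebra.FiniteType k Γ(X, U ι (MvPolynomial.X i)) := fun i =>
    DimSch.toSections_finiteType k X (haff i)
  have hdim : ∀ i : Fin (N + 1), ringKrullDim Γ(X, U ι (MvPolynomial.X i)) ≤ d := fun i =>
    dim_le X (haff i) hd
  choose F hF hF' using fun i j : Fin (N + 1) => SecTan.exists_secant (k := k)
    Γ(X, U ι (MvPolynomial.X i)) Γ(X, U ι (MvPolynomial.X j)) (hdim i) (hdim j)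
    (fun m : Fin (N + 1) => E ι (hX i) (MvPolynomial.X m))
    (fun m : Fin (N + 1) => E ι (hX j) (MvPolynomial.X m)) (by omega)
  choose G hG hG' using fun i : Fin (N + 1) => SecTan.exists_tangent (k := k)
    Γ(X, U ι (MvPolynomial.X i)) (hdim i) (fun p _ => isSmoothAt k X (haff i) p)
    (fun m : Fin (N + 1) => E ι (hX i) (MvPolynomial.X m)) (by omega)
  let H : MvPolynomial (Fin (N + 1)) k := MvPolynomial.X 0 * ((∏ i, ∏ j, F i j) * ∏ i, G i)
  have hH : H ≠ 0 := mul_ne_zero (MvPolynomial.X_ne_zero _) (mul_ne_zero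
    (Finset.prod_ne_zero_iff.mpr fun i _ => Finset.prod_ne_zero_iff.mpr fun j _ => hF i j)
    (Finset.prod_ne_zero_iff.mpr fun i _ => hG i))
  obtain ⟨P, hP⟩ : ∃ P : Fin (N + 1) → k, MvPolynomial.eval P H ≠ 0 := by
    by_contra hcon
    push Not at hcon
    exact hH (MvPolynomial.funext fun x => by rw [hcon, map_zero])
  rw [map_mul, map_mul, MvPolynomial.eval_X, map_prod, map_prod] at hP
  have h0 : P 0 ≠ 0 := left_ne_zero_of_mul hP
  have h1 := left_ne_zero_of_mul (right_ne_zero_of_mul hP)
  have h2 := right_ne_zero_of_mul (right_ne_zero_of_mul hP)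
  refine ⟨P, h0, fun i j K _ _ φ ψ s t hcon => ?_, fun i K _ _ Φ s t hcon => ?_⟩
  · have h3 := Finset.prod_ne_zero_iff.mp h1 i (Finset.mem_univ i)
    rw [map_prod] at h3
    have h4 := Finset.prod_ne_zero_iff.mp h3 j (Finset.mem_univ j)
    have h5 := hF' i j K φ ψ s t
    simp only [← hcon] at h5
    rw [aeval_algebraMap] at h5
    exact h4 ((algebraMap k K).injective (by rw [h5, map_zero]))
  · have h4 := Finset.prod_ne_zero_iff.mp h2 i (Finset.mem_univ i)
    have h5 := hG' i K Φ s t
    simp only [← hcon] at h5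
    rw [aeval_algebraMap] at h5
    exact h4 ((algebraMap k K).injective (by rw [h5, map_zero]))

end Point

section Step

open Charts

attribute [local instance] DimSch.secAlgebra

variable {k : Type u} [Field k] {N : ℕ} {X : Scheme.{u}} [X.Over (Spec (CommRingCat.of k))]
  (ι : X ⟶ ProjSpace N k) (hι : ι ≫ ProjSpace.toSpec N k = X ↘ Spec (CommRingCat.of k))
  (P : Fin (N + 1) → k)

/-- the linear forms vanishing at `P` -/
noncomputable def lf (j : Fin N) : MvPolynomial (Fin (N + 1)) k :=
  MvPolynomial.C (P 0) * MvPolynomial.X j.succ - MvPolynomial.C (P j.succ) * MvPolynomial.X 0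

theorem lf_mem (j : Fin N) : lf P j ∈ MvPolynomial.homogeneousSubmodule (Fin (N + 1)) k 1 := by
  refine Submodule.sub_mem _ ?_ ?_
  · have := (MvPolynomial.isHomogeneous_C (Fin (N + 1)) (P 0)).mul (MvPolynomial.isHomogeneous_X k j.succ)
    rwa [zero_add] at this
  · have := (MvPolynomial.isHomogeneous_C (Fin (N + 1)) (P j.succ)).mul
      (MvPolynomial.isHomogeneous_X k (0 : Fin (N + 1)))
    rwa [zero_add] at this

include hι in
theorem E_lf {l : MvPolynomial (Fin (N + 1)) k}
    (hl : l ∈ MvPolynomial.homogeneousSubmodule (Fin (N + 1)) k 1) {R : Type*} [CommRing R] [Algebra k R]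
    (ψ : Γ(X, U ι l) →ₐ[k] R) (j : Fin N) :
    ψ (E ι hl (lf P j)) = algebraMap k R (P 0) * ψ (E ι hl (MvPolynomial.X j.succ)) -
      algebraMap k R (P j.succ) * ψ (E ι hl (MvPolynomial.X 0)) := by
  rw [lf, map_sub, map_mul, map_mul, E_C ι hι hl, E_C ι hι hl, map_sub, map_mul, map_mul, ψ.commutes,
    ψ.commutes]

/-- Evaluation at a point as an algebra homomorphism. -/
noncomputable def evalPt {V : X.Opens} (x : X) (hx : x ∈ V) :
    letI := Curv2.resAlgebra k X x
    Γ(X, V) →ₐ[k] X.residueField x :=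
  letI := Curv2.resAlgebra k X x
  { (X.evaluation V x hx).hom with
    commutes' := fun c => by
      change (X.residue x).hom ((X.presheaf.germ V x hx).hom (DimSch.toSections k X V c)) = _
      rw [DimSch.germ_toSections]
      rfl }

include hι in
theorem iSup_lf (hP : Good ι P) : ⨆ j, U ι (lf P j) = ⊤ := by
  rw [eq_top_iff]
  intro x _
  by_contra hcon
  rw [TopologicalSpace.Opens.mem_iSup] at hcon
  push Not at hcon
  obtain ⟨i, hi⟩ := PerfB.ProjSpaceCover.exists_mem_basicOpen_X N k (ι x)
  have hxi : x ∈ U ι (MvPolynomial.X i) := hi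
  let _ := Curv2.resAlgebra k X x
  let φ : Γ(X, U ι (MvPolynomial.X i)) →ₐ[k] X.residueField x := evalPt x hxi
  have h1 : ∀ a ∈ MvPolynomial.homogeneousSubmodule (Fin (N + 1)) k 1, x ∉ U ι a →
      φ (E ι (hX i) a) = 0 := by
    intro a ha hxa
    by_contra hne
    have h2 : x ∈ X.basicOpen (E ι (hX i) a) :=
      (Scheme.evaluation_ne_zero_iff_mem_basicOpen X x hxi _).mp hne
    rw [basicOpen_E ι (hX i) ha] at h2
    exact hxa h2.2
  have h2 : ∀ j : Fin N, algebraMap k (X.residueField x) (P 0) * φ (E ι (hX i) (MvPolynomial.X j.succ)) =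
      algebraMap k (X.residueField x) (P j.succ) * φ (E ι (hX i) (MvPolynomial.X 0)) := by
    intro j
    have h3 := h1 _ (lf_mem P j) (hcon j)
    rw [E_lf ι hι P (hX i) φ j] at h3
    exact sub_eq_zero.mp h3
  have hP0 : algebraMap k (X.residueField x) (P 0) ≠ 0 := fun h => hP.ne
    ((algebraMap k (X.residueField x)).injective (by rw [h, map_zero]))
  have h3 : φ (E ι (hX i) (MvPolynomial.X i)) = 1 := by rw [E_self, map_one]
  have h4 : φ (E ι (hX i) (MvPolynomial.X 0)) ≠ 0 := by
    intro h0
    have h5 : ∀ m, φ (E ι (hX i) (MvPolynomial.X m)) = 0 := by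
      intro m
      induction m using Fin.cases with
      | zero => exact h0
      | succ j =>
        have := h2 j
        rw [h0, mul_zero] at this
        exact (mul_eq_zero.mp this).resolve_left hP0
    rw [h5] at h3
    exact zero_ne_one h3
  refine hP.sec i i (X.residueField x) φ φ
    (algebraMap k (X.residueField x) (P 0) * (φ (E ι (hX i) (MvPolynomial.X 0)))⁻¹) 0 fun m => ?_
  rw [zero_mul, add_zero]
  induction m using Fin.cases with
  | zero => field_simp
  | succ j =>
    rw [mul_right_comm, h2 j]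
    field_simp

include hι in
theorem surjective_aux (hP : Good ι P) [IsClosedImmersion ι] (j : Fin N) (A : Type u) [CommRing A]
    [Algebra k A] [Algebra A Γ(X, U ι (lf P j))] [IsScalarTower k A Γ(X, U ι (lf P j))]
    [Module.Finite A Γ(X, U ι (lf P j))] (y : Fin N → A)
    (hy : ∀ m, algebraMap A Γ(X, U ι (lf P j)) (y m) = E ι (lf_mem P j) (lf P m)) :
    Function.Surjective (algebraMap A Γ(X, U ι (lf P j))) := by
  by_contra hns
  let B := Γ(X, U ι (lf P j))
  let hl := lf_mem P j
  let u : B := E ι hl (MvPolynomial.X 0)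
  have hmem : ∀ m, E ι hl (MvPolynomial.X m) ∈ Algebra.adjoin A {u} := by
    intro m
    induction m using Fin.cases with
    | zero => exact Algebra.subset_adjoin rfl
    | succ m =>
      have h1 : E ι hl (lf P m) = algebraMap k B (P 0) * E ι hl (MvPolynomial.X m.succ) -
        algebraMap k B (P m.succ) * u := E_lf ι hι P hl (AlgHom.id k B) m
      have hu : algebraMap k B (P 0)⁻¹ * algebraMap k B (P 0) = 1 := by
        rw [← map_mul, inv_mul_cancel₀ hP.ne, map_one]
      have h2 : E ι hl (MvPolynomial.X m.succ) = algebraMap k B (P 0)⁻¹ *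
          (E ι hl (lf P m) + algebraMap k B (P m.succ) * u) := by
        rw [h1, sub_add_cancel, ← mul_assoc, hu, one_mul]
      rw [h2, ← hy m, IsScalarTower.algebraMap_apply k A B, IsScalarTower.algebraMap_apply k A B]
      exact mul_mem (Subalgebra.algebraMap_mem _ _) (add_mem (Subalgebra.algebraMap_mem _ _)
        (mul_mem (Subalgebra.algebraMap_mem _ _) (Algebra.subset_adjoin rfl)))
  have hadj : Algebra.adjoin A {u} = ⊤ := by
    rw [eq_top_iff]
    rintro b -
    obtain ⟨a, rfl⟩ := E_surjective ι hl b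
    induction a using MvPolynomial.induction_on with
    | C r =>
      rw [E_C ι hι hl, IsScalarTower.algebraMap_apply k A B]
      exact Subalgebra.algebraMap_mem _ _
    | add p q hp hq => rw [map_add]; exact add_mem hp hq
    | mul_X p i hp => rw [map_mul]; exact mul_mem hp (hmem i)
  obtain ⟨Ω, _, _, ⟨φ, ψ, hφψ, hne⟩ | ⟨Φ, hΦ, hΦu⟩⟩ :=
    Monogenic.exists_of_not_surjective (k := k) u hadj hns
  · have hP0 : algebraMap k Ω (P 0) ≠ 0 := fun h => hP.ne
      ((algebraMap k Ω).injective (by rw [h, map_zero]))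
    have key : ∀ χ : B →ₐ[k] Ω, ∃ i, χ (E ι hl (MvPolynomial.X i)) ≠ 0 := by
      intro χ
      by_contra hcon
      push Not at hcon
      have h1 := E_lf ι hι P hl χ j
      rw [E_self, map_one, hcon, hcon, mul_zero, mul_zero, sub_zero] at h1
      exact one_ne_zero h1
    obtain ⟨i, hi⟩ := key φ
    obtain ⟨i', hi'⟩ := key ψ
    obtain ⟨φ', hφ'⟩ := exists_chart ι hl (hX i) φ (isUnit_iff_ne_zero.mpr hi)
    obtain ⟨ψ', hψ'⟩ := exists_chart ι hl (hX i') ψ (isUnit_iff_ne_zero.mpr hi')
    have hδ : φ u - ψ u ≠ 0 := sub_ne_zero.mpr hne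
    have h1 : ∀ m, algebraMap k Ω (P 0) * (φ (E ι hl (MvPolynomial.X m)) - ψ (E ι hl (MvPolynomial.X m))) =
        algebraMap k Ω (P m) * (φ u - ψ u) := by
      intro m
      induction m using Fin.cases with
      | zero => rfl
      | succ m =>
        have h2 := E_lf ι hι P hl φ m
        have h3 := E_lf ι hι P hl ψ m
        have h4 : φ (E ι hl (lf P m)) = ψ (E ι hl (lf P m)) := by
          rw [← hy m]; exact hφψ _
        rw [h2, h3] at h4
        linear_combination h4
    refine hP.sec i i' Ω φ' ψ'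
      (algebraMap k Ω (P 0) / (φ u - ψ u) * φ (E ι hl (MvPolynomial.X i)))
      (-(algebraMap k Ω (P 0) / (φ u - ψ u) * ψ (E ι hl (MvPolynomial.X i')))) fun m => ?_
    have h2 := h1 m
    rw [hφ' _ (hX m), hψ' _ (hX m)] at h2
    field_simp
    linear_combination -h2
  · have hP0 : algebraMap k Ω (P 0) ≠ 0 := fun h => hP.ne
      ((algebraMap k Ω).injective (by rw [h, map_zero]))
    let φ : B →ₐ[k] Ω := (TrivSqZeroExt.fstHom k Ω Ω).comp Φ
    obtain ⟨i, hi⟩ : ∃ i, φ (E ι hl (MvPolynomial.X i)) ≠ 0 := by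
      by_contra hcon
      push Not at hcon
      have h1 := E_lf ι hι P hl φ j
      rw [E_self, map_one, hcon, hcon, mul_zero, mul_zero, sub_zero] at h1
      exact one_ne_zero h1
    have hi' : IsUnit (Φ (E ι hl (MvPolynomial.X i))) :=
      TrivSqZeroExt.isUnit_iff_isUnit_fst.mpr (isUnit_iff_ne_zero.mpr hi)
    obtain ⟨Φ', hΦ'⟩ := exists_chart ι hl (hX i) Φ hi'
    have h1 : ∀ m, algebraMap k Ω (P 0) * (Φ (E ι hl (MvPolynomial.X m))).snd =
        algebraMap k Ω (P m) := by
      intro m
      induction m using Fin.cases with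
      | zero => 
        have h2 : (Φ (E ι hl (MvPolynomial.X 0))).snd = 1 := hΦu
        rw [h2, mul_one]
      | succ m =>
        have h2 := E_lf ι hι P hl Φ m
        have h3 : (Φ (E ι hl (lf P m))).snd = 0 := by
          rw [← hy m]; exact hΦ _
        rw [h2] at h3
        have h4 : (Φ (E ι hl (MvPolynomial.X 0))).snd = 1 := hΦu
        rw [TrivSqZeroExt.snd_sub, TrivSqZeroExt.snd_mul, TrivSqZeroExt.snd_mul, h4] at h3
        simp only [TrivSqZeroExt.algebraMap_eq_inl', TrivSqZeroExt.fst_inl, TrivSqZeroExt.snd_inl,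
          smul_eq_mul, smul_zero, add_zero, mul_one] at h3
        linear_combination h3
    refine hP.tan i Ω Φ' (algebraMap k Ω (P 0) * (Φ (E ι hl (MvPolynomial.X i))).fst)
      (algebraMap k Ω (P i)) fun m => ?_
    have h2 := h1 m
    rw [hΦ' _ (hX m), TrivSqZeroExt.snd_mul, smul_eq_mul, op_smul_eq_mul] at h2
    rw [← h2, ← h1 i]
    ring

end Step

end K426.GenProj
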