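import Groth.Agent.Variety.K426.SBGeom
import Groth.Agent.Cons9.K119.FgIso
import Groth.Agent.Sga5.AmpleFib
import Groth.Agent.VarietyB.DimSch
import Groth.Agent.AlgGrp.K406.SepPts
import Mathlib.FieldTheory.IsSepClosed

/-!
# Forms of projective space: finite splitting fields, closed immersions into `P^n`

* `exists_finite`: a form of `P^n` is split by a finite extension;
* `exists_galois`: it is split by a finite Galois extension, if forms with a rational point are trivial;
* `isIso_of_closedImmersion`: a closed immersion (over `k`) of a form of `P^n` into `P^n` is an isomorphism.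
-/

set_option autoImplicit false

universe u

open CategoryTheory CategoryTheory.Limits AlgebraicGeometry

namespace K426.SBFin

open Groth.Agent Groth.Agent.CohqB.ProjBC W4bk4gw11416 K426.SBGeom

variable {k : Type u} [Field k] {X : Scheme.{u}} {p : X ⟶ Spec (CommRingCat.of k)}

/-- Base change of a common base change. -/
theorem isProjSpaceOver_common {B : Type u} [CommRing B] [Algebra k B] {n : ℕ} {Z : Scheme.{u}}
    (a : Z ⟶ X) (b : Z ⟶ CohB1.ProjSpace n k) (z : Z ⟶ Spec (CommRingCat.of B))
    (ha : IsPullback a z p (Spec.map (CommRingCat.ofHom (algebraMap k B))))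
    (hb : IsPullback b z (CohB1.ProjSpace.toSpec n k) (Spec.map (CommRingCat.ofHom (algebraMap k B)))) :
    IsProjSpaceOver (baseChangeTo p B) n := by
  have h1 := isPullback_pmap (algebraMap k B) n
  refine isProjSpaceOver_of_sq ((hb.isoIsPullback _ _ h1).inv ≫ a) ?_
  refine IsPullback.of_iso ha (hb.isoIsPullback _ _ h1) (Iso.refl _) (Iso.refl _) (Iso.refl _) ?_ ?_ ?_ ?_
  · simp
  · simp
  · simp
  · simp

/-- A form of projective space is split by a finite extension. -/
theorem exists_finite {K : Type u} [Field K] [Algebra k K] {n : ℕ}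
    (hX : IsProjSpaceOver (baseChangeTo p K) n) :
    ∃ (F : Type u) (_ : Field F) (_ : Algebra k F), FiniteDimensional k F ∧
      IsProjSpaceOver (baseChangeTo p F) n := by
  have hS : IsBrauerSeveri p := ⟨K, inferInstance, inferInstance, n, hX⟩
  have hs := smooth hS
  have hp := isProper hS
  have hs' : Smooth (CohB1.ProjSpace.toSpec n k) := SmoothOfRelativeDimension.smooth n _
  have hp' : IsProper (CohB1.ProjSpace.toSpec n k) := Ega3B.ProjProper.isProper_toSpec n k
  obtain ⟨g, hg⟩ := exists_sq hX
  obtain ⟨B, hB, Z, a, b, z, ha, hb⟩ := K119.FgIso.exists_common_fg (R := k) (B := K) p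
    (CohB1.ProjSpace.toSpec n k) g _ _ hg (isPullback_pmap (algebraMap k K) n)
  have hBP := isProjSpaceOver_common a b z ha hb
  have : Nontrivial B := inferInstance
  obtain ⟨m, hm⟩ := Ideal.exists_maximal B
  let _ : Field (B ⧸ m) := Ideal.Quotient.field m
  have hft : Algebra.FiniteType k B := B.fg_iff_finiteType.1 hB
  have hft' : Algebra.FiniteType k (B ⧸ m) := inferInstance
  exact ⟨B ⧸ m, inferInstance, inferInstance, finite_of_finite_type_of_isJacobsonRing k (B ⧸ m),
    isProjSpaceOver_ext hBP (B ⧸ m)⟩

/-- A closed immersion of a form of `P^n` into `P^n` is an isomorphism. -/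
theorem isIso_of_closedImmersion {K : Type u} [Field K] [Algebra k K] {n : ℕ}
    (hX : IsProjSpaceOver (baseChangeTo p K) n) (ρ : X ⟶ CohB1.ProjSpace n k) [IsClosedImmersion ρ]
    (hρ : ρ ≫ CohB1.ProjSpace.toSpec n k = p) : IsIso ρ := by
  obtain ⟨g, hg⟩ := exists_sq hX
  let q := pmap (algebraMap k K) n
  have hq := isPullback_pmap (algebraMap k K) n
  have hw : (g ≫ ρ) ≫ CohB1.ProjSpace.toSpec n k = CohB1.ProjSpace.toSpec n K ≫
      Spec.map (CommRingCat.ofHom (algebraMap k K)) := by
    rw [Category.assoc, hρ, hg.w]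
  let r : CohB1.ProjSpace n K ⟶ CohB1.ProjSpace n K := hq.lift (g ≫ ρ) (CohB1.ProjSpace.toSpec n K) hw
  have hr1 : r ≫ q = g ≫ ρ := hq.lift_fst _ _ hw
  have hr2 : r ≫ CohB1.ProjSpace.toSpec n K = CohB1.ProjSpace.toSpec n K := hq.lift_snd _ _ hw
  have hsq : IsPullback g r ρ q := by
    refine IsPullback.of_bot (h₃₁ := Spec.map (CommRingCat.ofHom (algebraMap k K))) ?_ hr1.symm hq
    rw [hr2, hρ]
    exact hg
  have hci : IsClosedImmersion r := MorphismProperty.of_isPullback (P := @IsClosedImmersion) hsq inferInstance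
  have : IsProper (CohB1.ProjSpace.toSpec n K) := Ega3B.ProjProper.isProper_toSpec n K
  let _ : (CohB1.ProjSpace n K).Over (Spec (CommRingCat.of K)) := ⟨CohB1.ProjSpace.toSpec n K⟩
  have : LocallyOfFiniteType (CohB1.ProjSpace n K ↘ Spec (CommRingCat.of K)) :=
    inferInstanceAs (LocallyOfFiniteType (CohB1.ProjSpace.toSpec n K))
  have hsurj : Function.Surjective r.base :=
    Sga5.AmpleFib.surjective_of_fibres _ (VarietyB.DimSch.topologicalKrullDim_eq_trd K)
      r.base r.continuous r.isClosedEmbedding.isClosed_range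
      (fun x y _ hxy => r.isClosedEmbedding.injective hxy)
  have hqs : Surjective q := MorphismProperty.of_isPullback (P := @Surjective) hq.flip (specMap_cover k K).1.1
  have hs : Surjective ρ := by
    constructor
    intro y
    obtain ⟨z, hz⟩ := hqs.surj y
    obtain ⟨w, hw⟩ := hsurj z
    refine ⟨g.base w, ?_⟩
    have := congr($(hr1).base w)
    simp only [Scheme.Hom.comp_base, TopCat.hom_comp, ContinuousMap.comp_apply] at this
    rw [← this, hw, hz]
  exact isIso_of_isClosedImmersion_of_surjective ρ

/-- The base change of a form is a form. -/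
theorem exists_baseChange {K : Type u} [Field K] [Algebra k K] {n : ℕ}
    (hX : IsProjSpaceOver (baseChangeTo p K) n) (L : Type u) [Field L] [Algebra k L] :
    ∃ (M : Type u) (_ : Field M) (_ : Algebra L M), IsProjSpaceOver (baseChangeTo (baseChangeTo p L) M) n := by
  obtain ⟨M, _, _, _, _, _, _⟩ := exists_common k K L
  obtain ⟨g, hg⟩ := exists_sq (isProjSpaceOver_ext hX M)
  refine ⟨M, inferInstance, inferInstance, ?_⟩
  have hL : IsPullback (pullback.fst p (Spec.map (CommRingCat.ofHom (algebraMap k L)))) (baseChangeTo p L) p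
    (Spec.map (CommRingCat.ofHom (algebraMap k L))) := IsPullback.of_hasPullback p _
  have hcomp : Spec.map (CommRingCat.ofHom (algebraMap L M)) ≫
      Spec.map (CommRingCat.ofHom (algebraMap k L)) = Spec.map (CommRingCat.ofHom (algebraMap k M)) := by
    rw [← Spec.map_comp, ← CommRingCat.ofHom_comp, ← IsScalarTower.algebraMap_eq]
  have hw : g ≫ p =
      (CohB1.ProjSpace.toSpec n M ≫ Spec.map (CommRingCat.ofHom (algebraMap L M))) ≫
        Spec.map (CommRingCat.ofHom (algebraMap k L)) := by
    rw [hg.w, Category.assoc, hcomp]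
  refine isProjSpaceOver_of_sq (hL.lift _ _ hw) ?_
  refine IsPullback.of_right ?_ (hL.lift_snd _ _ hw) hL
  rw [hcomp, hL.lift_fst]
  exact hg

/-- **Splitting by a finite Galois extension**, given that forms with a rational point are trivial. -/
theorem exists_galois (H : ∀ {L : Type u} [Field L] {Y : Scheme.{u}} (q : Y ⟶ Spec (CommRingCat.of L)) (n : ℕ) (M : Type u)
    [Field M] [Algebra L M] (_ : IsProjSpaceOver (baseChangeTo q M) n) (s : Spec (CommRingCat.of L) ⟶ Y)
    (_ : s ≫ q = 𝟙 _), IsProjSpaceOver q n) {K : Type u} [Field K] [Algebra k K] {n : ℕ}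
    (hX : IsProjSpaceOver (baseChangeTo p K) n) :
    ∃ (K : Type u) (_ : Field K) (_ : Algebra k K), FiniteDimensional k K ∧ IsGalois k K ∧
      IsProjSpaceOver (baseChangeTo p K) n := by
  have hS : IsBrauerSeveri p := ⟨K, inferInstance, inferInstance, n, hX⟩
  have hs := SBGeom.smooth hS
  have hne : Nonempty X := by
    obtain ⟨g, hg⟩ := exists_sq hX
    exact ⟨g.base (Classical.arbitrary _)⟩
  obtain ⟨L, _, _, x, hLf, hLs, hx⟩ := K406.SepPts.exists_finite_separable k p
  obtain ⟨M, _, _, hM⟩ := exists_baseChange hX L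
  let s : Spec (CommRingCat.of L) ⟶ baseChange p L := pullback.lift x (𝟙 _) (by rw [hx, Category.id_comp])
  have hL := H (baseChangeTo p L) n M hM s (pullback.lift_snd _ _ _)
  have : Algebra.IsSeparable k (SeparableClosure L) := Algebra.IsSeparable.trans k L (SeparableClosure L)
  have : IsSepClosure k (SeparableClosure L) := ⟨inferInstance, inferInstance⟩
  have : IsGalois k (SeparableClosure L) := inferInstance
  let E := IntermediateField.normalClosure k L (SeparableClosure L)
  have : FiniteDimensional k E := inferInstance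
  exact ⟨E, inferInstance, inferInstance, inferInstance, inferInstance, isProjSpaceOver_ext hL E⟩

end K426.SBFin
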